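import Cfsg.Agent.Lib.PGroups.UniqueInvolution

/-!
A `2`-group without normal four subgroup and with a non-central involution is dihedral or
semidihedral.
Owner: helper27.
-/

set_option autoImplicit false

namespace Cfsg.Agent.Lib.HalfTransitive

open Cfsg.Agent.Lib.PGroups

/-- `r² ≡ 1` modulo `2^(n+1)` forces `r ≡ ±1` modulo `2^n`. -/
theorem sq_one_cases {n : ℕ} {r : ℤ} (hn : 1 ≤ n) (h : (2 : ℤ) ^ (n + 1) ∣ r * r - 1) :
    (2 : ℤ) ^ n ∣ r - 1 ∨ (2 : ℤ) ^ n ∣ r + 1 := by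
  rcases Int.even_or_odd r with ⟨k, rfl⟩ | ⟨k, rfl⟩
  · exfalso
    have h2 : (2 : ℤ) ∣ (k + k) * (k + k) - 1 :=
      (dvd_pow_self (2 : ℤ) (Nat.succ_ne_zero n)).trans h
    rw [show (k + k) * (k + k) = 2 * (2 * (k * k)) by ring] at h2
    omega
  · obtain ⟨m, rfl⟩ : ∃ m, n = m + 1 := ⟨n - 1, by omega⟩
    rw [show (2 * k + 1) * (2 * k + 1) - 1 = (2 * 2) * (k * (k + 1)) by ring,
      show (2 : ℤ) ^ (m + 1 + 1) = (2 * 2) * 2 ^ m by ring,
      mul_dvd_mul_iff_left (by norm_num : (2 : ℤ) * 2 ≠ 0)] at h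
    rcases Int.even_or_odd k with hk | hk
    · left
      have hc : IsCoprime ((2 : ℤ) ^ m) (k + 1) :=
        (Int.prime_two.coprime_iff_not_dvd.mpr (by obtain ⟨j, rfl⟩ := hk; omega)).pow_left
      rw [show 2 * k + 1 - 1 = 2 * k by ring, pow_succ']
      exact mul_dvd_mul_left 2 (hc.dvd_of_dvd_mul_right h)
    · right
      have hc : IsCoprime ((2 : ℤ) ^ m) k :=
        (Int.prime_two.coprime_iff_not_dvd.mpr (by obtain ⟨j, rfl⟩ := hk; omega)).pow_left
      rw [show 2 * k + 1 + 1 = 2 * (k + 1) by ring, pow_succ']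
      exact mul_dvd_mul_left 2 (hc.dvd_of_dvd_mul_left h)

theorem dihedral_or_semidihedral {G : Type*} [Group G] [Finite G] (hG : IsPGroup 2 G)
    (hno : ¬ ∃ E : Subgroup G, E.Normal ∧ Cfsg.IsElementaryAbelian 2 E ∧ Nat.card E = 2 ^ 2)
    {t : G} (ht2 : t * t = 1) (htc : t ∉ Subgroup.center G) :
    ∃ (a : G) (n : ℕ), 1 ≤ n ∧ orderOf a = 2 ^ (n + 1) ∧ t ∉ Subgroup.zpowers a ∧
      Nat.card G = 2 ^ (n + 2) ∧
      (∀ g : G, g ∈ Subgroup.zpowers a ∨ g * t ∈ Subgroup.zpowers a) ∧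
      (t * a * t⁻¹ = a⁻¹ ∨ (2 ≤ n ∧ t * a * t⁻¹ = a ^ ((2 : ℤ) ^ n - 1))) := by
  classical
  obtain ⟨A, -, hAn, hA, hmax⟩ := exists_maximal_normal_abelian (⊥ : Subgroup G)
    (Subgroup.le_centralizer_iff_isMulCommutative.mp (by simp))
  have hC := centralizer_eq_self_of_maximal hG hA hmax
  have hAc : IsCyclic A := by
    by_contra hAc
    haveI := omegaOne_normal (p := 2) (K := A)
    obtain ⟨M, hMn, hM, hMc⟩ := exists_normal_le_card hG (Cfsg.omegaOne 2 A)
      (sq_le_card_omegaOne hA (hG.to_subgroup A) hAc)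
    exact hno ⟨M, hMn, elemAb_mono (elemAb_omegaOne hA) hM, hMc⟩
  obtain ⟨a, ha⟩ := (A.isCyclic_iff_exists_zpowers_eq_top).mp hAc
  have haA : a ∈ A := ha ▸ Subgroup.mem_zpowers a
  obtain ⟨N, hN⟩ := IsPGroup.iff_card.mp (hG.to_subgroup A)
  have hself : ∀ x, x * a * x⁻¹ = a → x ∈ A := by
    intro x hx
    rw [← hC, Subgroup.mem_centralizer_iff]
    intro y hy
    obtain ⟨k, rfl⟩ := Subgroup.mem_zpowers_iff.mp (ha ▸ hy)
    have hc : Commute x a := mul_inv_eq_iff_eq_mul.mp hx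
    exact (hc.zpow_right k).eq.symm
  obtain ⟨n, rfl, hn⟩ : ∃ n, N = n + 1 ∧ 1 ≤ n := by
    rcases N with _ | _ | n
    · exfalso
      have hbot : A = ⊥ := Subgroup.eq_bot_of_card_eq A (by simpa using hN)
      have hta : t ∈ A := hself t (by
        have ha1 : a = 1 := by
          have h := haA
          rw [hbot] at h
          exact Subgroup.mem_bot.1 h
        rw [ha1]; group)
      rw [hbot, Subgroup.mem_bot] at hta
      exact htc (by rw [hta]; exact one_mem _)
    · exfalso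
      have hAZ : A ≤ Subgroup.center G := le_center_of_normal_card_prime hG A (by simpa using hN)
      exact htc (hAZ (hself t (by
        rw [Subgroup.mem_center_iff.mp (hAZ haA) t, mul_inv_cancel_right])))
    · exact ⟨n + 1, rfl, by omega⟩
  have hord : orderOf a = 2 ^ (n + 1) := by rw [← Nat.card_zpowers, ha, hN]
  have key : ∀ k : ℤ, a ^ k = 1 ↔ ((2 : ℤ) ^ (n + 1)) ∣ k := fun k => by
    rw [← orderOf_dvd_iff_zpow_eq_one, hord]; norm_num
  have keyeq : ∀ i j : ℤ, a ^ i = a ^ j ↔ ((2 : ℤ) ^ (n + 1)) ∣ i - j := fun i j => by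
    rw [← key, zpow_sub, mul_inv_eq_one]
  set z := a ^ ((2 : ℤ) ^ n) with hz
  have hz1 : z ≠ 1 := by
    rw [hz, Ne, key]
    intro h
    have h1 := Int.le_of_dvd (by positivity) h
    have h2 : (0 : ℤ) < 2 ^ n := by positivity
    rw [pow_succ] at h1
    linarith
  have hzz : z * z = 1 := by rw [hz, ← zpow_add, key]; exact ⟨1, by ring⟩
  have hinA : ∀ y ∈ A, y * y = 1 → y = 1 ∨ y = z := by
    intro y hy hyy
    obtain ⟨k, rfl⟩ := Subgroup.mem_zpowers_iff.mp (ha ▸ hy)
    rw [← zpow_add, key, pow_succ', show k + k = 2 * k by ring,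
      mul_dvd_mul_iff_left (by norm_num : (2 : ℤ) ≠ 0)] at hyy
    obtain ⟨j, rfl⟩ := hyy
    rcases Int.even_or_odd j with ⟨i, rfl⟩ | ⟨i, rfl⟩
    · left; rw [key]; exact ⟨i, by ring⟩
    · right; rw [hz, keyeq]; exact ⟨i, by ring⟩
  have hzc : ∀ g : G, g * z = z * g := by
    intro g
    have hc : g * z * g⁻¹ ∈ A :=
      hAn.conj_mem z (hz ▸ A.zpow_mem haA _) g
    rcases hinA _ hc (by rw [show g * z * g⁻¹ * (g * z * g⁻¹) = g * (z * z) * g⁻¹ by group, hzz,
      mul_one, mul_inv_cancel]) with h | h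
    · exact absurd (by rwa [mul_inv_eq_one, mul_eq_left] at h) hz1
    · exact mul_inv_eq_iff_eq_mul.mp h
  have htA : t ∉ A := by
    intro h
    rcases hinA t h ht2 with rfl | rfl
    · exact htc (one_mem _)
    · exact htc (Subgroup.mem_center_iff.mpr hzc)
  -- the exponent by which an element acts on `A`
  have hact : ∀ x : G, ∃ r : ℤ, x * a * x⁻¹ = a ^ r ∧ ∀ k : ℤ, x * a ^ k * x⁻¹ = a ^ (r * k) := by
    intro x
    obtain ⟨r, hr⟩ := Subgroup.mem_zpowers_iff.mp (ha ▸ hAn.conj_mem a haA x)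
    exact ⟨r, hr.symm, fun k => by rw [← conj_zpow, ← hr, zpow_mul]⟩
  have hcompose : ∀ {x y : G} {r s : ℤ}, x * a * x⁻¹ = a ^ r → y * a * y⁻¹ = a ^ s →
      (x * y) * a * (x * y)⁻¹ = a ^ (r * s) := by
    intro x y r s hx hy
    rw [show (x * y) * a * (x * y)⁻¹ = x * (y * a * y⁻¹) * x⁻¹ by group, hy, ← conj_zpow, hx,
      zpow_mul]
  have hcomm : ∀ x y : G, x * y * x⁻¹ * y⁻¹ ∈ A := by
    intro x y
    refine hself _ ?_
    obtain ⟨r, hr, -⟩ := hact x
    obtain ⟨s, hs, -⟩ := hact y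
    have h1 := hcompose hr hs
    have h2 := hcompose hs hr
    rw [mul_comm s r, ← h1] at h2
    calc x * y * x⁻¹ * y⁻¹ * a * (x * y * x⁻¹ * y⁻¹)⁻¹
        = x * y * (x⁻¹ * (y⁻¹ * a * y) * x) * (x * y)⁻¹ := by group
      _ = (x * y) * ((y * x)⁻¹ * a * (y * x)) * (x * y)⁻¹ := by group
      _ = a := by
        have h3 : (y * x)⁻¹ * a * (y * x) = (x * y)⁻¹ * a * (x * y) := by
          apply (MulAut.conj (y * x)).injective
          simp only [MulAut.conj_apply]
          rw [show y * x * ((x * y)⁻¹ * a * (x * y)) * (y * x)⁻¹ =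
            (y * x) * (x * y)⁻¹ * a * ((y * x) * (x * y)⁻¹)⁻¹ by group]
          have hw : y * x * (x * y)⁻¹ * a * (y * x * (x * y)⁻¹)⁻¹ = a := by
            have h4 : (x * y)⁻¹ * a * (x * y) ∈ A := by
              simpa using hAn.conj_mem a haA (x * y)⁻¹
            obtain ⟨j, hj⟩ := Subgroup.mem_zpowers_iff.mp (ha ▸ h4)
            have e1 : x * y * a ^ j * (x * y)⁻¹ = a := by rw [hj]; group
            have e2 : y * x * a ^ j * (y * x)⁻¹ = x * y * a ^ j * (x * y)⁻¹ := by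
              rw [← conj_zpow, ← conj_zpow, h2]
            calc y * x * (x * y)⁻¹ * a * (y * x * (x * y)⁻¹)⁻¹
                = y * x * ((x * y)⁻¹ * a * (x * y)) * (y * x)⁻¹ := by group
              _ = y * x * a ^ j * (y * x)⁻¹ := by rw [hj]
              _ = a := e2.trans e1
          rw [hw]
          group
        rw [h3]; group
  -- no element acts as `1 + 2^n` when `n ≥ 2`
  have hnomod : 2 ≤ n → ∀ u : G, u * u ∈ A → u * a * u⁻¹ ≠ a ^ (1 + (2 : ℤ) ^ n) := by
    intro h2n u huu hu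
    have huA : u ∉ A := by
      intro h
      have hc : u * a * u⁻¹ = a := by
        have := hA.is_comm.comm ⟨u, h⟩ ⟨a, haA⟩
        have h' : u * a = a * u := congrArg Subtype.val this
        rw [h', mul_inv_cancel_right]
      rw [hu] at hc
      have h1 := (keyeq (1 + (2 : ℤ) ^ n) 1).1 (by rw [hc, zpow_one])
      rw [add_sub_cancel_left, ← key] at h1
      exact hz1 h1
    obtain ⟨m, rfl⟩ : ∃ m, n = m + 2 := ⟨n - 2, by omega⟩
    obtain ⟨s, hs⟩ := Subgroup.mem_zpowers_iff.mp (ha ▸ huu)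
    have hconj : ∀ k : ℤ, u * a ^ k * u⁻¹ = a ^ ((1 + (2 : ℤ) ^ (m + 2)) * k) := fun k => by
      rw [← conj_zpow, hu, zpow_mul]
    have hseven : (2 : ℤ) ∣ s := by
      have h1 := hconj s
      rw [hs, show u * (u * u) * u⁻¹ = u * u by group, ← hs, keyeq,
        show s - (1 + (2 : ℤ) ^ (m + 2)) * s = (2 : ℤ) ^ (m + 2) * (-s) by ring,
        pow_succ _ (m + 2), mul_dvd_mul_iff_left (by positivity : (2 : ℤ) ^ (m + 2) ≠ 0), dvd_neg]
        at h1
      exact h1
    obtain ⟨s', rfl⟩ := hseven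
    -- an involution `a^i u`
    have hsq : ∀ i : ℤ, a ^ i * u * (a ^ i * u) = a ^ (i * (2 + (2 : ℤ) ^ (m + 2)) + 2 * s') := by
      intro i
      rw [show a ^ i * u * (a ^ i * u) = a ^ i * (u * a ^ i * u⁻¹) * (u * u) by group, hconj, ← hs,
        ← zpow_add, ← zpow_add]
      congr 1; ring
    have hcop : IsCoprime ((2 : ℤ) ^ (m + 2)) (1 + (2 : ℤ) ^ (m + 1)) :=
      (Int.prime_two.coprime_iff_not_dvd.mpr (by rw [pow_succ]; omega)).pow_left
    obtain ⟨c, d, hcd⟩ := hcop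
    set i : ℤ := -(d * s') with hi
    have hv : a ^ i * u * (a ^ i * u) = 1 := by
      rw [hsq, key]
      refine ⟨c * s', ?_⟩
      rw [hi]
      linear_combination (-(2 * s')) * hcd
    obtain ⟨v, hvdef⟩ : ∃ v, v = a ^ i * u := ⟨_, rfl⟩
    rw [← hvdef] at hv
    have hvz : v * z = z * v := hzc v
    have p1 : z * (z * v) = v := by rw [← mul_assoc, hzz, one_mul]
    have p2 : v * (z * v) = z := by rw [← mul_assoc, hvz, mul_assoc, hv, mul_one]
    have p3 : z * v * z = v := by rw [mul_assoc, hvz, p1]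
    have p4 : z * v * v = z := by rw [mul_assoc, hv, mul_one]
    have p5 : z * v * (z * v) = 1 := by rw [mul_assoc, p2, hzz]
    have hvA : v ∉ A := fun h => huA (by
      have := A.mul_mem (A.inv_mem (A.zpow_mem haA i)) h
      rwa [hvdef, inv_mul_cancel_left] at this)
    let E : Subgroup G :=
      { carrier := {g | g = 1 ∨ g = z ∨ g = v ∨ g = z * v}
        one_mem' := Or.inl rfl
        mul_mem' := by
          rintro x y (rfl | rfl | rfl | rfl) (rfl | rfl | rfl | rfl) <;>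
            simp only [Set.mem_setOf_eq, one_mul, mul_one, hzz, hv, hvz, p1, p2, p3, p4, p5,
              true_or, or_true]
        inv_mem' := by
          have hzi : z⁻¹ = z := inv_eq_of_mul_eq_one_right hzz
          have hvi : v⁻¹ = v := inv_eq_of_mul_eq_one_right hv
          rintro x (rfl | rfl | rfl | rfl) <;> simp [hzi, hvi, mul_inv_rev, hvz] }
    have hEchar : ∀ g : G, g * g = 1 → (g ∈ A ∨ g * v⁻¹ ∈ A) → g ∈ E := by
      intro g hg hcase
      rcases hcase with h | h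
      · rcases hinA g h hg with e | e
        · exact Or.inl e
        · exact Or.inr (Or.inl e)
      · obtain ⟨j, hj⟩ := Subgroup.mem_zpowers_iff.mp (ha ▸ h)
        have hgv : g = a ^ j * v := by rw [hj, inv_mul_cancel_right]
        have hj2 : (2 : ℤ) ^ (m + 2) ∣ j := by
          have h1 := hg
          rw [hgv, hvdef, show a ^ j * (a ^ i * u) = a ^ (j + i) * u by rw [zpow_add, mul_assoc],
            hsq, key] at h1
          have h0 : (2 : ℤ) ^ (m + 2 + 1) ∣ i * (2 + (2 : ℤ) ^ (m + 2)) + 2 * s' := by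
            refine (key _).1 ((hsq i).symm.trans ?_)
            rw [← hvdef]; exact hv
          have h2 := dvd_sub h1 h0
          rw [show (j + i) * (2 + (2 : ℤ) ^ (m + 2)) + 2 * s' -
              (i * (2 + (2 : ℤ) ^ (m + 2)) + 2 * s') = 2 * (j * (1 + (2 : ℤ) ^ (m + 1))) by ring,
            pow_succ', mul_dvd_mul_iff_left (by norm_num : (2 : ℤ) ≠ 0)] at h2
          exact IsCoprime.dvd_of_dvd_mul_right ⟨c, d, hcd⟩ h2
        obtain ⟨w, rfl⟩ := hj2
        rcases Int.even_or_odd w with ⟨b, rfl⟩ | ⟨b, rfl⟩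
        · refine Or.inr (Or.inr (Or.inl ?_))
          rw [hgv, (key _).2 ⟨b, by ring⟩, one_mul]
        · refine Or.inr (Or.inr (Or.inr ?_))
          rw [hgv, show a ^ ((2 : ℤ) ^ (m + 2) * (2 * b + 1)) = z by
            rw [hz, keyeq]; exact ⟨b, by ring⟩]
    refine hno ⟨E, ⟨fun e he g => ?_⟩, ?_, ?_⟩
    · have hee : e * e = 1 := by
        rcases he with rfl | rfl | rfl | rfl
        · exact one_mul 1
        · exact hzz
        · exact hv
        · rw [show z * v * (z * v) = z * (v * z) * v by group, hzc v, ← mul_assoc, hzz, one_mul,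
            hv]
      refine hEchar _ (by rw [show g * e * g⁻¹ * (g * e * g⁻¹) = g * (e * e) * g⁻¹ by group, hee,
        mul_one, mul_inv_cancel]) ?_
      have hzA : z ∈ A := A.zpow_mem haA _
      have hcv : g * v * g⁻¹ * v⁻¹ ∈ A := hcomm g v
      rcases he with rfl | rfl | rfl | rfl
      · left; simp
      · left; exact hAn.conj_mem _ hzA g
      · right; exact hcv
      · right
        rw [show g * (z * v) * g⁻¹ = g * z * g⁻¹ * (g * v * g⁻¹) by group, mul_assoc]
        exact A.mul_mem (hAn.conj_mem _ hzA g) hcv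
    · rw [elemAb_iff]
      refine ⟨?_, ?_⟩
      · rintro x (rfl | rfl | rfl | rfl) y (rfl | rfl | rfl | rfl) <;>
          simp only [one_mul, mul_one, hzz, hv, hvz, p1, p2, p3, p4, p5]
      · rintro x (rfl | rfl | rfl | rfl) <;> rw [pow_two] <;>
          simp only [one_mul, hzz, hv, p5]
    · have hset : (E : Set G) = {1, z, v, z * v} := rfl
      show Nat.card (E : Set G) = 2 ^ 2
      rw [Nat.card_coe_set_eq, hset]
      have hzA : z ∈ A := A.zpow_mem haA _
      have e1 : (1 : G) ≠ v := fun h => hvA (h ▸ A.one_mem)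
      have e2 : z ≠ v := fun h => hvA (h ▸ hzA)
      have e3 : (1 : G) ≠ z * v := fun h => hvA (by
        rw [show v = z⁻¹ by rw [eq_inv_iff_mul_eq_one, hzc v]; exact h.symm]
        exact A.inv_mem hzA)
      have e4 : z ≠ z * v := fun h => e1 (mul_left_cancel (by rwa [mul_one]) )
      have e5 : v ≠ z * v := fun h => hz1 (mul_right_cancel (by rw [one_mul]; exact h.symm))
      rw [Set.ncard_insert_of_notMem (by simp [Ne.symm hz1, e1, e3]),
        Set.ncard_insert_of_notMem (by simp [e2, e4]), Set.ncard_pair e5]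
      norm_num
  have hval : ∀ u : G, u ∉ A → u * u ∈ A →
      u * a * u⁻¹ = a⁻¹ ∨ (2 ≤ n ∧ u * a * u⁻¹ = a ^ ((2 : ℤ) ^ n - 1)) := by
    intro u hu huu
    obtain ⟨r, hr, -⟩ := hact u
    have h1 : a ^ (r * r) = a := by
      rw [← hcompose hr hr]
      have h' : u * u * a = a * (u * u) :=
        congrArg Subtype.val (hA.is_comm.comm ⟨u * u, huu⟩ ⟨a, haA⟩)
      rw [h', mul_inv_cancel_right]
    rw [show a = a ^ (1 : ℤ) from (zpow_one a).symm, ← zpow_mul, one_mul, keyeq] at h1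
    rcases sq_one_cases hn h1 with ⟨w, hw⟩ | ⟨w, hw⟩
    · rcases Int.even_or_odd w with ⟨b, rfl⟩ | ⟨b, rfl⟩
      · exfalso
        refine hu (hself u (hr.trans ?_))
        conv_rhs => rw [← zpow_one a]
        rw [keyeq]
        exact ⟨b, by rw [hw]; ring⟩
      · rcases Nat.lt_or_ge n 2 with h2 | h2
        · obtain rfl : n = 1 := by omega
          left
          rw [hr, ← zpow_neg_one, keyeq]
          exact ⟨b + 1, by linear_combination hw⟩
        · refine absurd (hr.trans ((keyeq _ _).2 ⟨b, ?_⟩)) (hnomod h2 u huu)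
          linear_combination hw
    · rcases Int.even_or_odd w with ⟨b, rfl⟩ | ⟨b, rfl⟩
      · left
        rw [hr, ← zpow_neg_one, keyeq]
        exact ⟨b, by linear_combination hw⟩
      · rcases Nat.lt_or_ge n 2 with h2 | h2
        · exfalso
          obtain rfl : n = 1 := by omega
          refine hu (hself u (hr.trans ?_))
          conv_rhs => rw [← zpow_one a]
          rw [keyeq]
          exact ⟨b, by linear_combination hw⟩
        · right
          refine ⟨h2, ?_⟩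
          rw [hr, keyeq]
          exact ⟨b, by linear_combination hw⟩
  have hsq : ∀ y : G, y * y ∈ A := by
    intro y
    by_contra hy
    have hex : ∃ k, (y * y) ^ 2 ^ k ∈ A := by
      obtain ⟨k, hk⟩ := hG (y * y)
      exact ⟨k, by rw [hk]; exact A.one_mem⟩
    obtain ⟨k, hk⟩ : ∃ k, Nat.find hex = k + 1 :=
      ⟨Nat.find hex - 1, by
        have : Nat.find hex ≠ 0 := fun h => hy (by simpa [h] using Nat.find_spec hex)
        omega⟩
    set u := y ^ 2 ^ k with hu
    have hw : (y * y) ^ 2 ^ k = u * u := by rw [hu, ← pow_two y, ← pow_mul, mul_comm, pow_mul, pow_two]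
    have hwA : u * u ∉ A := hw ▸ Nat.find_min hex (by omega)
    have hwwA : u * u * (u * u) ∈ A := by
      have := Nat.find_spec hex
      rwa [hk, pow_succ, pow_mul, hw, pow_two] at this
    obtain ⟨r, hr, -⟩ := hact u
    have hrr := hcompose hr hr
    obtain ⟨R, hR, hR4⟩ : ∃ R : ℤ, u * u * a * (u * u)⁻¹ = a ^ R ∧ (4 : ℤ) ∣ R + 1 := by
      rcases hval _ hwA hwwA with h | ⟨h2, h⟩
      · exact ⟨-1, by rw [h, zpow_neg_one], by norm_num⟩
      · refine ⟨(2 : ℤ) ^ n - 1, h, ?_⟩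
        rw [sub_add_cancel, show (4 : ℤ) = 2 ^ 2 by norm_num]
        exact pow_dvd_pow 2 h2
    rw [hrr, keyeq] at hR
    have h4 : (4 : ℤ) ∣ r * r + 1 := by
      have h4' : (4 : ℤ) ∣ 2 ^ (n + 1) := by
        rw [show (4 : ℤ) = 2 ^ 2 by norm_num]; exact pow_dvd_pow 2 (by omega)
      have := dvd_add (h4'.trans hR) hR4
      rwa [show r * r - R + (R + 1) = r * r + 1 by ring] at this
    rcases Int.even_or_odd r with ⟨b, rfl⟩ | ⟨b, rfl⟩
    · rw [show (b + b) * (b + b) = 4 * (b * b) by ring] at h4; omega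
    · rw [show (2 * b + 1) * (2 * b + 1) + 1 = 4 * (b * b + b) + 2 by ring] at h4; omega
  have hprod : ∀ g : G, g ∈ A ∨ g * t ∈ A := by
    intro g
    by_cases hg : g ∈ A
    · exact Or.inl hg
    right
    by_contra hgt
    have h1 := hval g hg (hsq g)
    have h2 := hval t htA (hsq t)
    have h3 := hval (g * t) hgt (hsq _)
    obtain ⟨r, hr, hrv⟩ : ∃ r : ℤ, g * a * g⁻¹ = a ^ r ∧ (r = -1 ∨ (2 ≤ n ∧ r = 2 ^ n - 1)) := by
      rcases h1 with h | ⟨h', h⟩
      · exact ⟨-1, by rw [h, zpow_neg_one], Or.inl rfl⟩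
      · exact ⟨_, h, Or.inr ⟨h', rfl⟩⟩
    obtain ⟨s, hs, hsv⟩ : ∃ r : ℤ, t * a * t⁻¹ = a ^ r ∧ (r = -1 ∨ (2 ≤ n ∧ r = 2 ^ n - 1)) := by
      rcases h2 with h | ⟨h', h⟩
      · exact ⟨-1, by rw [h, zpow_neg_one], Or.inl rfl⟩
      · exact ⟨_, h, Or.inr ⟨h', rfl⟩⟩
    have hrs := hcompose hr hs
    have hone : a ^ (r * s) = a → False := fun h => hgt (hself _ (hrs.trans h))
    have hmodcase : 2 ≤ n → a ^ (r * s) = a ^ (1 + (2 : ℤ) ^ n) → False := fun h h' =>
      hnomod h _ (hsq _) (hrs.trans h')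
    rcases hrv with rfl | ⟨h2', rfl⟩ <;> rcases hsv with rfl | ⟨h2'', rfl⟩
    · exact hone (by norm_num)
    · exact hmodcase h2'' (by rw [keyeq]; exact ⟨-1, by ring⟩)
    · exact hmodcase h2' (by rw [keyeq]; exact ⟨-1, by ring⟩)
    · obtain ⟨m, rfl⟩ : ∃ m, n = m + 2 := ⟨n - 2, by omega⟩
      apply hone
      conv_rhs => rw [← zpow_one a]
      rw [keyeq]
      exact ⟨(2 : ℤ) ^ (m + 1) - 1, by ring⟩
  have hindex : A.index = 2 := by
    refine Subgroup.index_eq_two_iff.mpr ⟨t, fun b => ?_⟩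
    by_cases hb : b ∈ A
    · refine Or.inr ⟨hb, fun h => htA ?_⟩
      simpa using A.mul_mem (A.inv_mem hb) h
    · exact Or.inl ⟨(hprod b).resolve_left hb, hb⟩
  refine ⟨a, n, hn, hord, by rw [ha]; exact htA, ?_, by simpa [ha] using hprod,
    hval t htA (hsq t)⟩
  rw [← A.card_mul_index, hindex, hN, ← pow_succ]

end Cfsg.Agent.Lib.HalfTransitive
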