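import Cfsg.Agent.Lib.HalfTransitive.Normal
import Cfsg.Agent.Lib.HalfTransitive.MaxClass
import Cfsg.Agent.Lib.PGroups.UniqueInvolution

/-!
The dihedral and semidihedral half-transitive groups, and semiregular groups.
Owner: helper27.
-/

set_option autoImplicit false

namespace Cfsg.Agent.Lib.HalfTransitive

open Cfsg.Agent.Lib.PGroups

variable {q : ℕ} [Fact q.Prime] {V : Type*} [AddCommGroup V] [Module (ZMod q) V]
variable {G : Type*} [Group G] [Finite G]

theorem natCast_prime_ne_zero {p : ℕ} (hp : p.Prime) (hqp : q ≠ p) : ((p : ℕ) : ZMod q) ≠ 0 := by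
  intro h
  rw [ZMod.natCast_eq_zero_iff] at h
  exact hqp (((Nat.dvd_prime hp).1 h).resolve_left (Fact.out : q.Prime).ne_one)

/-- A semiregular `p`-group is cyclic or generalised quaternion. -/
theorem cyclic_or_quaternion_of_semiregular [Nontrivial V] {p : ℕ} [Fact p.Prime]
    (hG : IsPGroup p G) (hqp : q ≠ p) (ρ : G →* (V ≃ₗ[ZMod q] V))
    (hsr : ∀ v : V, v ≠ 0 → ∀ g : G, ρ g v = v → g = 1) :
    IsCyclic G ∨ ∃ n : ℕ, Nonempty (G ≃* QuaternionGroup n) := by
  classical
  have hp : p.Prime := Fact.out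
  have hzero : ∀ g : G, g ≠ 1 → ∀ w, ρ g w = w → w = 0 := fun g hg w hw => by
    by_contra h0; exact hg (hsr w h0 g hw)
  have hnoklein : ∀ E : Subgroup G, (∀ a ∈ E, ∀ b ∈ E, a * b = b * a) → (∀ e ∈ E, e ^ p = 1) →
      Nat.card E ≠ p ^ 2 := by
    intro E _ hexp hE
    have hne : ∀ K : Subgroup G, 1 < Nat.card K → ∀ w, (∀ k ∈ K, ρ k w = w) → w = 0 := by
      intro K hK w hw
      haveI : Nontrivial K := Finite.one_lt_card_iff_nontrivial.1 hK
      obtain ⟨k, hk⟩ := exists_ne (1 : K)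
      exact hzero k (fun e => hk (Subtype.ext e)) w (hw k k.2)
    obtain ⟨v, hv⟩ := exists_ne (0 : V)
    apply hv
    rw [eq_sum_avg ρ hqp hE hexp (hne E (by rw [hE]; exact Nat.one_lt_pow two_ne_zero hp.one_lt)) v]
    refine Finset.sum_eq_zero fun K hK => hne K ?_ _ (fun k hk => avg_fixed ρ K hk v)
    rw [(mem_subs.1 hK).2]; exact hp.one_lt
  rcases subsingleton_or_nontrivial G with hG1 | hG1
  · exact Or.inl isCyclic_of_subsingleton
  have hZ : Nontrivial (Subgroup.center G) := hG.center_nontrivial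
  obtain ⟨k, hk⟩ := IsPGroup.iff_card.1 (hG.to_subgroup (Subgroup.center G))
  have hk1 : 1 ≤ k := by
    rcases k with _ | k
    · have := Finite.one_lt_card_iff_nontrivial.2 hZ; rw [hk] at this; simp at this
    · omega
  obtain ⟨z, hz⟩ := exists_prime_orderOf_dvd_card' (G := Subgroup.center G) p
    (hk ▸ dvd_pow_self p (by omega))
  have hz' : orderOf (z : G) = p := by rw [Subgroup.orderOf_coe]; exact hz
  have hunique : ∀ y : G, orderOf y = p → y ∈ Subgroup.zpowers (z : G) := by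
    intro y hy
    by_contra hyz
    have hcomm : Commute (z : G) y := (Subgroup.mem_center_iff.1 z.2 y).symm
    have hset : ∀ a ∈ ({(z : G), y} : Set G), ∀ b ∈ ({(z : G), y} : Set G), a * b = b * a := by
      rintro a (rfl | rfl) b (rfl | rfl) <;> first | rfl | exact hcomm | exact hcomm.symm
    have he := elemAb_closure (p := p) hset (by
      rintro a (rfl | rfl)
      · rw [← hz', pow_orderOf_eq_one]
      · rw [← hy, pow_orderOf_eq_one])
    obtain ⟨M, hM, -, hMc⟩ : ∃ M : Subgroup G, M ≤ Subgroup.closure ({(z : G), y} : Set G) ∧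
        Cfsg.IsElementaryAbelian p M ∧ Nat.card M = p ^ 2 := by
      refine elemAb_exists_le_card he ?_
      have hP : IsPGroup p (Subgroup.closure ({(z : G), y} : Set G)) := hG.to_subgroup _
      obtain ⟨j, hj⟩ := IsPGroup.iff_card.1 hP
      have hlt : p < Nat.card (Subgroup.closure ({(z : G), y} : Set G)) := by
        refine lt_of_le_of_ne ?_ ?_
        · rw [← hz', ← Nat.card_zpowers]
          exact Subgroup.card_le_of_le ((Subgroup.zpowers_le).2 (Subgroup.subset_closure (by simp)))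
        · intro h
          apply hyz
          have heq : Subgroup.zpowers (z : G) = Subgroup.closure ({(z : G), y} : Set G) :=
            Subgroup.eq_of_le_of_card_ge ((Subgroup.zpowers_le).2 (Subgroup.subset_closure (by simp)))
              (by rw [Nat.card_zpowers, hz', ← h])
          rw [heq]; exact Subgroup.subset_closure (by simp)
      rw [hj] at hlt ⊢
      refine Nat.pow_le_pow_right hp.pos ?_
      by_contra h
      interval_cases j
      · have := hp.one_lt; simp at hlt; omega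
      · simp at hlt
    refine hnoklein M (fun a ha b hb => elemAb_comm he (hM ha) (hM hb))
      (fun a ha => elemAb_pow he (hM ha)) hMc
  rcases isCyclic_or_quaternion hG (fun x y hx hy => by
    have hxz := hunique x hx
    have : Subgroup.zpowers x = Subgroup.zpowers (z : G) :=
      Subgroup.eq_of_le_of_card_ge ((Subgroup.zpowers_le).2 hxz)
        (by rw [Nat.card_zpowers, Nat.card_zpowers, hx, hz'])
    rw [this]; exact hunique y hy) with h | ⟨-, n, -, h⟩
  · exact Or.inl h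
  · exact Or.inr ⟨_, h⟩

/-- The case without normal four subgroup. -/
theorem dihedral_case [Finite V] [Nontrivial V] (hq2 : q ≠ 2) (hG : IsPGroup 2 G)
    (ρ : G →* (V ≃ₗ[ZMod q] V)) (hρ : Function.Injective ρ) (hhalf : Half ρ)
    (hno : ¬ ∃ E : Subgroup G, E.Normal ∧ Cfsg.IsElementaryAbelian 2 E ∧ Nat.card E = 2 ^ 2)
    {v₀ : V} {g₀ : G} (hv₀ : v₀ ≠ 0) (hg₀ : g₀ ≠ 1) (hfix : ρ g₀ v₀ = v₀) :
    Nat.card V = q ^ 2 ∧ ∃ m : ℕ, q = 2 ^ m - 1 ∧
      (Nonempty (G ≃* DihedralGroup (2 ^ m)) ∨ (Cfsg.IsQuasiDihedral G ∧ Nat.card G = 2 ^ (m + 2))) := by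
  classical
  haveI : Fintype V := Fintype.ofFinite V
  have hq : q.Prime := Fact.out
  have h2 : ((2 : ℕ) : ZMod q) ≠ 0 := natCast_prime_ne_zero Nat.prime_two hq2
  push_cast at h2
  have hcent : ∀ z ∈ Subgroup.center G, z * z = 1 → z ≠ 1 → ∀ w : V, ρ z w = -w := by
    intro z hz hzz hz1 w
    haveI : (Subgroup.zpowers z).Normal := ⟨fun k hk g => by
      obtain ⟨i, rfl⟩ := hk
      have hc : Commute g z := Subgroup.mem_center_iff.1 hz g
      show g * z ^ i * g⁻¹ ∈ Subgroup.zpowers z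
      rw [(hc.zpow_right i).eq, mul_inv_cancel_right]
      exact Subgroup.zpow_mem_zpowers z i⟩
    have hcard : Nat.card (Subgroup.zpowers z) = 2 := by
      rw [Nat.card_zpowers]; exact orderOf_eq_prime (by rw [sq, hzz]) hz1
    have h0 : ρ z w + w = 0 := by
      refine eq_zero_of_fixed hρ hhalf (N := Subgroup.zpowers z) (by rw [hcard]; exact_mod_cast h2)
        (Subgroup.zpowers_ne_bot.2 hz1) ?_
      intro k hk
      have hle : Subgroup.zpowers z ≤ St ρ (ρ z w + w) := by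
        rw [Subgroup.zpowers_le]
        show ρ z (ρ z w + w) = ρ z w + w
        rw [map_add, ← rho_mul, hzz, rho_one, add_comm]
      exact hle hk
    exact eq_neg_of_add_eq_zero_left h0
  obtain ⟨t₀, ht₀fix, ht₀⟩ : ∃ t : G, ρ t v₀ = v₀ ∧ orderOf t = 2 := by
    haveI : Nontrivial (St ρ v₀) :=
      ⟨⟨⟨g₀, hfix⟩, 1, fun h => hg₀ (congrArg Subtype.val h)⟩⟩
    obtain ⟨k, hk⟩ := IsPGroup.iff_card.1 (hG.to_subgroup (St ρ v₀))
    have hk1 : k ≠ 0 := by
      rintro rfl
      have := Finite.one_lt_card (α := St ρ v₀)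
      rw [hk] at this; simp at this
    obtain ⟨t, ht⟩ := exists_prime_orderOf_dvd_card' (G := St ρ v₀) 2 (hk ▸ dvd_pow_self 2 hk1)
    exact ⟨t, t.2, by rw [Subgroup.orderOf_coe]; exact ht⟩
  have ht2 : t₀ * t₀ = 1 := by rw [← sq, ← ht₀, pow_orderOf_eq_one]
  have ht1 : t₀ ≠ 1 := fun h => by simp [h] at ht₀
  have hneg : ∀ {w : V}, w ≠ 0 → -w ≠ w := fun {w} hw h => by
    apply hw
    have h2w : (2 : ZMod q) • w = 0 := by
      rw [two_smul]; nth_rewrite 1 [← h]; exact neg_add_cancel w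
    exact (smul_eq_zero.1 h2w).resolve_left h2
  have htc : t₀ ∉ Subgroup.center G := fun h =>
    hneg hv₀ ((hcent t₀ h ht2 ht1 v₀).symm.trans ht₀fix)
  obtain ⟨a, n, hn, hord, htA, hGcard, hcases, hr⟩ := dihedral_or_semidihedral hG hno ht2 htc
  set A := Subgroup.zpowers a with hA
  have key : ∀ k : ℤ, a ^ k = 1 ↔ ((2 : ℤ) ^ (n + 1)) ∣ k := fun k => by
    rw [← orderOf_dvd_iff_zpow_eq_one, hord]; norm_num
  obtain ⟨r, hr0, hrcase⟩ : ∃ r : ℤ, t₀ * a * t₀⁻¹ = a ^ r ∧
      (r = -1 ∨ (2 ≤ n ∧ r = 2 ^ n - 1)) := by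
    rcases hr with h | ⟨h', h⟩
    · exact ⟨-1, by rw [h, zpow_neg_one], Or.inl rfl⟩
    · exact ⟨_, h, Or.inr ⟨h', rfl⟩⟩
  have hodd : ∃ j : ℤ, r = 2 * j + 1 := by
    rcases hrcase with rfl | ⟨h2n, rfl⟩
    · exact ⟨-1, by norm_num⟩
    · obtain ⟨m, rfl⟩ : ∃ m, n = m + 1 := ⟨n - 1, by omega⟩
      exact ⟨2 ^ m - 1, by ring⟩
  have hconj : ∀ i : ℤ, t₀ * a ^ i * t₀⁻¹ = a ^ (r * i) := fun i => by
    rw [← conj_zpow, hr0, zpow_mul]
  set z := a ^ ((2 : ℤ) ^ n) with hz
  have hz1 : z ≠ 1 := by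
    rw [hz, Ne, key]
    intro h
    have h1 := Int.le_of_dvd (by positivity) h
    have h2' : (0 : ℤ) < 2 ^ n := by positivity
    rw [pow_succ] at h1; linarith
  have hzz : z * z = 1 := by rw [hz, ← zpow_add, key]; exact ⟨1, by ring⟩
  have hzc : z ∈ Subgroup.center G := by
    rw [Subgroup.mem_center_iff]
    have ht : t₀ * z = z * t₀ := by
      rw [← mul_inv_eq_iff_eq_mul, hz, hconj, ← mul_inv_eq_one, ← zpow_neg, ← zpow_add, key]
      obtain ⟨j, rfl⟩ := hodd
      exact ⟨j, by ring⟩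
    intro g
    rcases hcases g with h | h
    · obtain ⟨i, rfl⟩ := Subgroup.mem_zpowers_iff.1 h
      exact ((Commute.refl a).zpow_zpow i _).eq
    · obtain ⟨i, hi⟩ := Subgroup.mem_zpowers_iff.1 h
      have hg : g = a ^ i * t₀⁻¹ := by rw [hi, mul_inv_cancel_right]
      have ht' : Commute z t₀⁻¹ := (show Commute z t₀ from ht.symm).inv_right
      have ha' : Commute z (a ^ i) := (Commute.refl a).zpow_zpow _ i
      rw [hg]
      exact (ha'.mul_right ht').eq.symm
  have hzv : ∀ w : V, ρ z w = -w := hcent z hzc hzz hz1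
  have hfree : ∀ g ∈ A, g ≠ 1 → ∀ w : V, w ≠ 0 → ρ g w ≠ w := by
    intro g hg hg1 w hw hgw
    have hle : Subgroup.zpowers g ≤ St ρ w := (Subgroup.zpowers_le).2 hgw
    obtain ⟨k, hk⟩ := IsPGroup.iff_card.1 (hG.to_subgroup (Subgroup.zpowers g))
    have hk1 : k ≠ 0 := by
      rintro rfl
      rw [pow_zero, Nat.card_zpowers, orderOf_eq_one_iff] at hk
      exact hg1 hk
    obtain ⟨y, hy⟩ := exists_prime_orderOf_dvd_card' (G := Subgroup.zpowers g) 2
      (hk ▸ dvd_pow_self 2 hk1)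
    have hyA : (y : G) ∈ A := (Subgroup.zpowers_le).2 hg y.2
    have hyo : orderOf (y : G) = 2 := by rw [Subgroup.orderOf_coe]; exact hy
    obtain ⟨i, hi⟩ := Subgroup.mem_zpowers_iff.1 hyA
    have hyz : (y : G) = z := by
      have h2i : a ^ (2 * i) = 1 := by
        rw [mul_comm, zpow_mul, hi, zpow_two, ← sq, ← hyo, pow_orderOf_eq_one]
      rw [key, pow_succ', mul_dvd_mul_iff_left (by norm_num : (2 : ℤ) ≠ 0)] at h2i
      obtain ⟨j, rfl⟩ := h2i
      rcases Int.even_or_odd j with ⟨b, rfl⟩ | ⟨b, rfl⟩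
      · exfalso
        rw [(key _).2 ⟨b, by ring⟩] at hi
        rw [← hi, orderOf_one] at hyo
        omega
      · rw [← hi, hz, ← mul_inv_eq_one, ← zpow_neg, ← zpow_add, key]
        exact ⟨b, by ring⟩
    have h1 : ρ (y : G) w = w := hle y.2
    rw [hyz, hzv] at h1
    exact hneg hw h1
  let W := {w : G // w ∉ A ∧ w * w = 1}
  have hwact : ∀ w : G, w ∉ A → w * a * w⁻¹ = a ^ r := by
    intro w hw
    obtain ⟨i, hi⟩ := Subgroup.mem_zpowers_iff.1 ((hcases w).resolve_left hw)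
    have hg : w = a ^ i * t₀ := by
      rw [hi, mul_assoc, ht2, mul_one]
    rw [hg, show a ^ i * t₀ * a * (a ^ i * t₀)⁻¹ = a ^ i * (t₀ * a * t₀⁻¹) * (a ^ i)⁻¹ by group,
      hr0, ← zpow_add, ← zpow_neg, ← zpow_add]
    congr 1; ring
  -- each vector is fixed by exactly one member of `W`
  have hst : ∀ v : V, v ≠ 0 → ∃! w : W, ρ w.1 v = v := by
    intro v hv
    have hne : ∃ g : G, g ≠ 1 ∧ ρ g v = v := by
      have h1 := hhalf v₀ v hv₀ hv
      haveI : Nontrivial (St ρ v₀) :=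
        ⟨⟨⟨g₀, hfix⟩, 1, fun h => hg₀ (congrArg Subtype.val h)⟩⟩
      have h2' := Finite.one_lt_card (α := St ρ v₀)
      rw [h1] at h2'
      haveI := Finite.one_lt_card_iff_nontrivial.1 h2'
      obtain ⟨g, hg⟩ := exists_ne (1 : St ρ v)
      exact ⟨g, fun h => hg (Subtype.ext h), g.2⟩
    obtain ⟨g, hg1, hgv⟩ := hne
    have hgA : g ∉ A := fun h => hfree g h hg1 v hv hgv
    have hpair : ∀ u w : G, u ∉ A → w ∉ A → ρ u v = v → ρ w v = v → u * w = 1 := by
      intro u w hu hw huv hwv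
      by_contra h
      refine hfree _ ?_ h v hv (by rw [rho_mul, hwv, huv])
      obtain ⟨i, hi⟩ := Subgroup.mem_zpowers_iff.1 ((hcases u).resolve_left hu)
      obtain ⟨j, hj⟩ := Subgroup.mem_zpowers_iff.1 ((hcases w).resolve_left hw)
      have e : u * w = a ^ i * (t₀ * a ^ j * t₀⁻¹) := by
        rw [hi, hj, inv_eq_of_mul_eq_one_right ht2]
        simp only [mul_assoc, ht2, mul_one]
        rw [← mul_assoc t₀ t₀, ht2, one_mul]
      rw [e, hconj, ← zpow_add]
      exact Subgroup.zpow_mem_zpowers a _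
    have hgg := hpair g g hgA hgA hgv hgv
    refine ⟨⟨g, hgA, hgg⟩, hgv, fun w hw => Subtype.ext ?_⟩
    have := hpair w.1 g w.2.1 hgA hw hgv
    exact mul_right_cancel (this.trans hgg.symm)
  let fx : G → Submodule (ZMod q) V := fun w =>
    { carrier := {v | ρ w v = v}
      zero_mem' := map_zero _
      add_mem' := fun {x y} hx hy => by
        show ρ w (x + y) = x + y
        rw [map_add, show ρ w x = x from hx, show ρ w y = y from hy]
      smul_mem' := fun c x hx => by
        show ρ w (c • x) = c • x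
        rw [map_smul, show ρ w x = x from hx] }
  have hsq : ∀ w : W, Nat.card (fx w.1) * Nat.card (fx w.1) = Nat.card V := by
    rintro ⟨w, hwA, hww⟩
    have hwz : Nat.card (fx w) = Nat.card (fx (w * z)) := by
      obtain ⟨m, hm⟩ : ∃ m, n = m + 1 := ⟨n - 1, by omega⟩
      set k : ℤ := 2 ^ m with hk
      have hc : a ^ k * w * (a ^ k)⁻¹ = w * z := by
        have h1 : w * (a ^ k)⁻¹ = a ^ (r * (-k)) * w := by
          rw [← zpow_neg, ← mul_inv_eq_iff_eq_mul, ← conj_zpow, hwact w hwA, zpow_mul]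
        rw [mul_assoc, h1, ← mul_assoc, ← zpow_add, Subgroup.mem_center_iff.1 hzc w, hz]
        congr 1
        rw [← mul_inv_eq_one, ← zpow_neg, ← zpow_add, key]
        rcases hrcase with rfl | ⟨h2n, rfl⟩
        · exact ⟨0, by rw [hk, hm]; ring⟩
        · obtain ⟨b, rfl⟩ : ∃ b, m = b + 1 := ⟨m - 1, by omega⟩
          exact ⟨-(2 ^ b), by rw [hk, hm]; ring⟩
      have hkey : ∀ u : V, ρ (w * z) (ρ (a ^ k) u) = ρ (a ^ k) (ρ w u) := fun u => by
        rw [← hc, ← rho_mul, ← rho_mul, inv_mul_cancel_right]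
      refine Nat.card_congr
        { toFun := fun v => ⟨ρ (a ^ k) v, ?_⟩
          invFun := fun v => ⟨ρ (a ^ k)⁻¹ v, ?_⟩
          left_inv := fun v => Subtype.ext (rho_inv ρ _ v.1)
          right_inv := fun v => Subtype.ext (rho_inv' ρ _ v.1) }
      · show ρ (w * z) (ρ (a ^ k) v.1) = ρ (a ^ k) v.1
        rw [hkey, show ρ w v.1 = v.1 from v.2]
      · show ρ w (ρ (a ^ k)⁻¹ v.1) = ρ (a ^ k)⁻¹ v.1
        apply (ρ (a ^ k)).injective
        rw [← hkey, rho_inv' ρ]
        exact v.2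
    show Nat.card (fx w) * Nat.card (fx w) = Nat.card V
    nth_rewrite 2 [hwz]
    rw [← Nat.card_prod]
    have hhalf' : ∀ x : V, ((2 : ZMod q)⁻¹) • (x + x) = x := fun x => by
      rw [← two_smul (ZMod q) x, smul_smul, inv_mul_cancel₀ h2, one_smul]
    refine Nat.card_congr
      { toFun := fun x => x.1.1 + x.2.1
        invFun := fun v => (⟨(2 : ZMod q)⁻¹ • (v + ρ w v), ?_⟩, ⟨(2 : ZMod q)⁻¹ • (v - ρ w v), ?_⟩)
        left_inv := ?_
        right_inv := fun v => ?_ }
    · show ρ w ((2 : ZMod q)⁻¹ • (v + ρ w v)) = (2 : ZMod q)⁻¹ • (v + ρ w v)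
      rw [map_smul, map_add, ← rho_mul, hww, rho_one, add_comm]
    · show ρ (w * z) ((2 : ZMod q)⁻¹ • (v - ρ w v)) = (2 : ZMod q)⁻¹ • (v - ρ w v)
      rw [rho_mul, hzv, map_neg, map_smul, map_sub, ← rho_mul, hww, rho_one, ← smul_neg, neg_sub]
    · rintro ⟨⟨x, hx⟩, ⟨y, hy⟩⟩
      have hx' : ρ w x = x := hx
      have hy' : ρ w y = -y := by
        have h : ρ (w * z) y = y := hy
        rw [rho_mul, hzv, map_neg, neg_eq_iff_eq_neg] at h
        exact h
      refine Prod.ext (Subtype.ext ?_) (Subtype.ext ?_)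
      · show (2 : ZMod q)⁻¹ • (x + y + ρ w (x + y)) = x
        rw [map_add, hx', hy']
        conv_rhs => rw [← hhalf' x]
        congr 1; abel
      · show (2 : ZMod q)⁻¹ • (x + y - ρ w (x + y)) = y
        rw [map_add, hx', hy']
        conv_rhs => rw [← hhalf' y]
        congr 1; abel
    · show (2 : ZMod q)⁻¹ • (v + ρ w v) + (2 : ZMod q)⁻¹ • (v - ρ w v) = v
      rw [← smul_add]
      conv_rhs => rw [← hhalf' v]
      congr 1; abel
  let w₀ : W := ⟨t₀, htA, ht2⟩
  set Q := Nat.card (fx t₀) with hQ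
  have hQall : ∀ w : W, Nat.card (fx w.1) = Q := fun w =>
    Nat.mul_self_inj.1 ((hsq w).trans (hsq w₀).symm)
  obtain ⟨d, hd⟩ : ∃ d, Q = q ^ d := by
    refine ⟨Module.finrank (ZMod q) (fx t₀), ?_⟩
    rw [hQ, Nat.card_eq_fintype_card, Module.card_eq_pow_finrank (K := ZMod q) (V := fx t₀), ZMod.card]
  have hV : Nat.card V = Q * Q := (hsq w₀).symm
  have hQ2 : 2 ≤ Q := by
    by_contra h
    have h1 : Q ≤ 1 := by omega
    have := Finite.one_lt_card (α := V)
    rw [hV] at this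
    nlinarith
  haveI : Fintype W := Fintype.ofFinite W
  have hcount : Nat.card W * (Q - 1) = Q * Q - 1 := by
    let e : {v : V // v ≠ 0} ≃ Σ w : W, {v : fx w.1 // v ≠ 0} :=
      { toFun := fun v => ⟨(hst v.1 v.2).choose, ⟨⟨v.1, (hst v.1 v.2).choose_spec.1⟩,
          fun h => v.2 (congrArg Subtype.val h)⟩⟩
        invFun := fun s => ⟨s.2.1.1, fun h => s.2.2 (Subtype.ext h)⟩
        left_inv := fun v => rfl
        right_inv := fun s => by
          obtain ⟨w, ⟨⟨v, hv⟩, hv0⟩⟩ := s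
          have hv0' : v ≠ 0 := fun h => hv0 (Subtype.ext h)
          have hw : (hst v hv0').choose = w := ((hst v hv0').choose_spec.2 w hv).symm
          subst hw
          rfl }
    have hnz : ∀ (X : Type _) [Finite X] (x₀ : X), Nat.card {x : X // x ≠ x₀} = Nat.card X - 1 := by
      intro X _ x₀
      haveI := Fintype.ofFinite X
      rw [Nat.card_eq_fintype_card, Fintype.card_subtype_compl, Fintype.card_subtype_eq,
        Nat.card_eq_fintype_card]
    have h := Nat.card_congr e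
    rw [Nat.card_sigma] at h
    rw [hnz V 0, hV] at h
    rw [h, Finset.sum_congr rfl fun w _ => by rw [hnz (fx w.1) 0, hQall w], Finset.sum_const,
      Finset.card_univ, Nat.card_eq_fintype_card, smul_eq_mul]
  have hWQ : Nat.card W = Q + 1 := by
    obtain ⟨j, hj⟩ : ∃ j, Q = j + 2 := ⟨Q - 2, by omega⟩
    rw [hj] at hcount ⊢
    have h1 : (j + 2) * (j + 2) - 1 = (j + 3) * (j + 1) := by
      have : (j + 2) * (j + 2) = (j + 3) * (j + 1) + 1 := by ring
      omega
    rw [h1] at hcount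
    exact Nat.eq_of_mul_eq_mul_right (by omega) hcount
  -- counting `W`
  have hW : (r = -1 ∧ Nat.card W = 2 ^ (n + 1)) ∨ (r ≠ -1 ∧ Nat.card W = 2 ^ n) := by
    have hsqt : ∀ i : ℤ, a ^ i * t₀ * (a ^ i * t₀) = a ^ (i * (1 + r)) := by
      intro i
      rw [show a ^ i * t₀ * (a ^ i * t₀) = a ^ i * (t₀ * a ^ i * t₀⁻¹) * (t₀ * t₀) by group, hconj,
        ht2, mul_one, ← zpow_add]
      congr 1; ring
    have e : W ≃ {x : A // (x : G) * t₀ * ((x : G) * t₀) = 1} :=
      { toFun := fun w => ⟨⟨w.1 * t₀, (hcases w.1).resolve_left w.2.1⟩, by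
          show w.1 * t₀ * t₀ * (w.1 * t₀ * t₀) = 1
          rw [mul_assoc w.1, ht2, mul_one]; exact w.2.2⟩
        invFun := fun x => ⟨(x.1 : G) * t₀, fun h => htA (by
            have := A.mul_mem (A.inv_mem x.1.2) h
            rwa [inv_mul_cancel_left] at this), x.2⟩
        left_inv := fun w => Subtype.ext (by simp [mul_assoc, ht2])
        right_inv := fun x => Subtype.ext (Subtype.ext (by simp [mul_assoc, ht2])) }
    rw [Nat.card_congr e]
    by_cases hr1 : r = -1
    · left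
      refine ⟨hr1, ?_⟩
      have hall : ∀ x : A, (x : G) * t₀ * ((x : G) * t₀) = 1 := by
        intro x
        obtain ⟨i, hi⟩ := Subgroup.mem_zpowers_iff.1 x.2
        rw [← hi, hsqt, hr1]; simp
      rw [Nat.card_congr (Equiv.subtypeUnivEquiv hall), Nat.card_zpowers, hord]
    · right
      refine ⟨hr1, ?_⟩
      obtain ⟨h2n, hrv⟩ := hrcase.resolve_left hr1
      have hiff : ∀ x : A, ((x : G) * t₀ * ((x : G) * t₀) = 1) ↔ (x : G) ∈ Subgroup.zpowers (a ^ 2) := by
        intro x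
        obtain ⟨i, hi⟩ := Subgroup.mem_zpowers_iff.1 x.2
        rw [← hi, hsqt, key, hrv]
        constructor
        · intro h
          rw [show i * (1 + ((2 : ℤ) ^ n - 1)) = 2 ^ n * i by ring, pow_succ,
            mul_dvd_mul_iff_left (by positivity : (2 : ℤ) ^ n ≠ 0)] at h
          obtain ⟨b, rfl⟩ := h
          exact ⟨b, by show (a ^ 2) ^ b = a ^ (2 * b); rw [zpow_mul]; norm_cast⟩
        · rintro ⟨b, hb⟩
          have hb' : a ^ (2 * b) = a ^ i := by rw [zpow_mul]; exact_mod_cast hb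
          rw [← mul_inv_eq_one, ← zpow_neg, ← zpow_add, key] at hb'
          obtain ⟨c, hc⟩ := hb'
          exact ⟨b - 2 ^ n * c, by linear_combination (-(2 : ℤ) ^ n) * hc⟩
      have hle : Subgroup.zpowers (a ^ 2) ≤ A :=
        (Subgroup.zpowers_le).2 (A.pow_mem (Subgroup.mem_zpowers a) 2)
      rw [Nat.card_congr ((Equiv.subtypeEquivRight hiff).trans
        (Subgroup.subgroupOfEquivOfLe hle).toEquiv), Nat.card_zpowers,
        orderOf_pow' a two_ne_zero, hord, show Nat.gcd (2 ^ (n + 1)) 2 = 2 from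
          Nat.gcd_eq_right (dvd_pow_self 2 n.succ_ne_zero), pow_succ, Nat.mul_div_cancel _ two_pos]
  -- `q ^ d + 1` is a power of two, so `d = 1`
  have hd1 : ∀ m : ℕ, 1 ≤ m → q ^ d + 1 = 2 ^ m → d = 1 := by
    intro m hm h
    have hd0 : 1 ≤ d := by
      rcases Nat.eq_zero_or_pos d with rfl | h' <;> [skip; exact h']
      rw [hd, pow_zero] at hQ2; omega
    have hqo := hq.odd_of_ne_two hq2
    rcases Nat.even_or_odd d with ⟨e, rfl⟩ | hdodd
    · exfalso
      obtain ⟨x, hx⟩ := (hqo.pow : Odd (q ^ e))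
      rw [pow_add, hx] at h
      rcases m with _ | _ | m
      · omega
      · have h3 : 3 ≤ q := by have := hq.two_le; omega
        have h4 : q ≤ q ^ e := Nat.le_self_pow (by omega) q
        norm_num at h
        nlinarith
      · rw [show (2 * x + 1) * (2 * x + 1) + 1 = 4 * (x * x + x) + 2 by ring,
          show 2 ^ (m + 1 + 1) = 4 * 2 ^ m by ring] at h
        omega
    · have hdiv : (∑ i ∈ Finset.range d, (-(q : ℤ)) ^ i) ∣ ((2 : ℕ) ^ m : ℤ) := by
        refine ⟨1 + q, ?_⟩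
        have h1 := geom_sum_mul (-(q : ℤ)) d
        rw [Odd.neg_pow hdodd] at h1
        have h2' : ((q : ℤ) ^ d + 1) = ((2 : ℕ) ^ m : ℤ) := by exact_mod_cast h
        linear_combination -h2' + h1
      have hodd' : Odd (∑ i ∈ Finset.range d, (-(q : ℤ)) ^ i) := by
        have key : ∀ j : ℕ, Odd (∑ i ∈ Finset.range j, (-(q : ℤ)) ^ i) ↔ Odd j := by
          intro j
          induction j with
          | zero => simp
          | succ j ih =>
            have hp' : Odd ((-(q : ℤ)) ^ j) := (((Int.odd_coe_nat q).2 hqo).neg).pow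
            rw [Finset.sum_range_succ, Int.odd_add', iff_true_left hp', Nat.odd_add_one,
              ← Int.not_odd_iff_even, ih]
        exact (key d).2 hdodd
      have hunit : IsUnit (∑ i ∈ Finset.range d, (-(q : ℤ)) ^ i) := by
        have hcop : IsCoprime (∑ i ∈ Finset.range d, (-(q : ℤ)) ^ i) ((2 : ℕ) ^ m : ℤ) := by
          refine IsCoprime.pow_right ?_
          have hnd : ¬ (2 : ℤ) ∣ ∑ i ∈ Finset.range d, (-(q : ℤ)) ^ i := by
            rw [← even_iff_two_dvd, Int.not_even_iff_odd]; exact hodd'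
          exact (Int.prime_two.coprime_iff_not_dvd.mpr hnd).symm
        exact hcop.isUnit_of_dvd' dvd_rfl hdiv
      have h1 := geom_sum_mul (-(q : ℤ)) d
      rw [Odd.neg_pow hdodd] at h1
      have hle : q ^ d ≤ q := by
        rcases Int.isUnit_iff.1 hunit with e | e <;> rw [e] at h1
        · have : (q : ℤ) ^ d = q := by linarith
          exact le_of_eq (by exact_mod_cast this)
        · have h5 : (1 : ℤ) ≤ (q : ℤ) ^ d := one_le_pow₀ (by exact_mod_cast hq.one_le)
          linarith [show (0 : ℤ) ≤ (q : ℤ) from Nat.cast_nonneg q]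
      by_contra hne
      have hlt : q ^ 1 < q ^ d := Nat.pow_lt_pow_right hq.one_lt (by omega)
      rw [pow_one] at hlt
      omega
  rcases hW with ⟨rfl, hc⟩ | ⟨hr1, hc⟩
  · rw [hWQ, hd] at hc
    have hdd := hd1 (n + 1) (by omega) hc
    rw [hdd, pow_one] at hd hc
    refine ⟨by rw [hV, hd, sq], n + 1, by omega, Or.inl ?_⟩
    haveI : NeZero (2 ^ (n + 1)) := ⟨(pow_pos two_pos _).ne'⟩
    refine nonempty_dihedral_equiv hord (by rw [sq, ht2]) (by rw [hr0, zpow_neg_one]) htA ?_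
    rw [hGcard]; ring
  · rw [hWQ, hd] at hc
    have hdd := hd1 n hn hc
    rw [hdd, pow_one] at hd hc
    obtain ⟨h2n, hrv⟩ := hrcase.resolve_left hr1
    refine ⟨by rw [hV, hd, sq], n, by omega, Or.inr ⟨⟨n + 1, by omega, ?_, a, t₀, hord, ht₀, ?_⟩,
      hGcard⟩⟩
    · rw [hGcard]
    · rw [hr0, hrv, show n + 1 - 1 = n by omega, ← zpow_natCast]
      congr 1
      push_cast [Nat.one_le_two_pow]
      ring

end Cfsg.Agent.Lib.HalfTransitive
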