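import Mathlib

/-!
Fixed spaces and averaging for half-transitive linear groups of coprime characteristic.
Owner: helper27.
-/

set_option autoImplicit false

namespace Cfsg.Agent.Lib.HalfTransitive

variable {q : ℕ} [Fact q.Prime] {V : Type*} [AddCommGroup V] [Module (ZMod q) V]
variable {G : Type*} [Group G] (ρ : G →* (V ≃ₗ[ZMod q] V))

/-- The stabiliser of a vector. -/
def St (v : V) : Subgroup G where
  carrier := {g | ρ g v = v}
  one_mem' := by simp
  mul_mem' {g h} hg hh := by
    show ρ (g * h) v = v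
    rw [map_mul, LinearEquiv.mul_apply, show ρ h v = v from hh, show ρ g v = v from hg]
  inv_mem' {g} hg := by
    show ρ g⁻¹ v = v
    conv_lhs => rw [← show ρ g v = v from hg]
    rw [← LinearEquiv.mul_apply, ← map_mul, inv_mul_cancel, map_one]
    rfl

theorem mem_St {v : V} {g : G} : g ∈ St ρ v ↔ ρ g v = v := Iff.rfl

theorem rho_mul (g h : G) (v : V) : ρ (g * h) v = ρ g (ρ h v) := by
  rw [map_mul, LinearEquiv.mul_apply]

theorem rho_one (v : V) : ρ 1 v = v := by simp

theorem rho_inv (g : G) (v : V) : ρ g⁻¹ (ρ g v) = v := by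
  rw [← rho_mul, inv_mul_cancel, rho_one]

theorem rho_inv' (g : G) (v : V) : ρ g (ρ g⁻¹ v) = v := by
  rw [← rho_mul, mul_inv_cancel, rho_one]

theorem card_orbit_eq_index (v : V) :
    Nat.card {u : V | ∃ g : G, ρ g v = u} = (St ρ v).index := by
  let act : MulAction G V :=
    { smul := fun g u => ρ g u
      one_smul := rho_one ρ
      mul_smul := rho_mul ρ }
  have h : @MulAction.stabilizer G V _ act v = St ρ v := rfl
  rw [← h, MulAction.index_stabilizer, Nat.card_coe_set_eq]
  rfl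

variable [Finite G]

/-- The averaging projection onto the fixed space of a subgroup. -/
noncomputable def avg (N : Subgroup G) : V →ₗ[ZMod q] V :=
  haveI := Fintype.ofFinite N
  ((Nat.card N : ZMod q)⁻¹) • ∑ k : N, (ρ (k : G)).toLinearMap

theorem avg_apply (N : Subgroup G) [Fintype N] (v : V) :
    avg ρ N v = (Nat.card N : ZMod q)⁻¹ • ∑ k : N, ρ (k : G) v := by
  unfold avg
  simp only [LinearMap.smul_apply, LinearMap.coe_sum, Finset.sum_apply, LinearEquiv.coe_coe]
  congr 1
  convert rfl using 3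

theorem avg_fixed (N : Subgroup G) {k : G} (hk : k ∈ N) (v : V) : ρ k (avg ρ N v) = avg ρ N v := by
  classical
  haveI := Fintype.ofFinite N
  rw [avg_apply, map_smul, map_sum]
  congr 1
  rw [← Equiv.sum_comp (Equiv.mulLeft (⟨k, hk⟩ : N)) fun j : N => ρ (j : G) v]
  refine Finset.sum_congr rfl fun j _ => ?_
  show ρ k (ρ (j : G) v) = ρ (k * (j : G)) v
  rw [rho_mul]

theorem avg_eq_self {N : Subgroup G} (hN : (Nat.card N : ZMod q) ≠ 0) {v : V}
    (h : ∀ k ∈ N, ρ k v = v) : avg ρ N v = v := by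
  classical
  haveI := Fintype.ofFinite N
  rw [avg_apply, Finset.sum_congr rfl fun (j : N) _ => h j j.2, Finset.sum_const, Finset.card_univ,
    ← Nat.card_eq_fintype_card, ← Nat.cast_smul_eq_nsmul (ZMod q), smul_smul, inv_mul_cancel₀ hN,
    one_smul]

theorem avg_map {N M : Subgroup G} {g : G} (h : ∀ k, k ∈ N ↔ g * k * g⁻¹ ∈ M) (v : V) :
    ρ g (avg ρ N v) = avg ρ M (ρ g v) := by
  classical
  haveI := Fintype.ofFinite N
  haveI := Fintype.ofFinite M
  let e : N ≃ M :=
    { toFun := fun k => ⟨g * k * g⁻¹, (h k).1 k.2⟩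
      invFun := fun m => ⟨g⁻¹ * m * g, (h _).2 (by
        rw [show g * (g⁻¹ * (m : G) * g) * g⁻¹ = m by group]; exact m.2)⟩
      left_inv := fun k => Subtype.ext (by simp [mul_assoc])
      right_inv := fun m => Subtype.ext (by simp [mul_assoc]) }
  rw [avg_apply, avg_apply, map_smul, map_sum, Nat.card_congr e]
  congr 1
  rw [← Equiv.sum_comp e fun m : M => ρ (m : G) (ρ g v)]
  refine Finset.sum_congr rfl fun k _ => ?_
  show ρ g (ρ (k : G) v) = ρ (g * k * g⁻¹) (ρ g v)
  rw [← rho_mul ρ (g * k * g⁻¹) g, inv_mul_cancel_right, rho_mul]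

/-- Half-transitivity in terms of stabilisers. -/
def Half : Prop := ∀ v w : V, v ≠ 0 → w ≠ 0 → Nat.card (St ρ v) = Nat.card (St ρ w)

theorem half_of_orbits
    (hhalf : ∀ v w : V, v ≠ 0 → w ≠ 0 →
      Nat.card {u : V | ∃ g : G, ρ g v = u} = Nat.card {u : V | ∃ g : G, ρ g w = u}) :
    Half ρ := by
  intro v w hv hw
  have h := hhalf v w hv hw
  rw [card_orbit_eq_index, card_orbit_eq_index] at h
  have h1 := (St ρ v).card_mul_index
  have h2 := (St ρ w).card_mul_index
  rw [h] at h1
  exact Nat.eq_of_mul_eq_mul_right (Nat.pos_of_ne_zero (Subgroup.index_ne_zero_of_finite))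
    (h1.trans h2.symm)

variable {ρ}

/-- A nontrivial normal subgroup of order prime to `q` fixes no nonzero vector. -/
theorem eq_zero_of_fixed (hρ : Function.Injective ρ) (hhalf : Half ρ) {N : Subgroup G} [N.Normal]
    (hN : (Nat.card N : ZMod q) ≠ 0) (hne : N ≠ ⊥) {w : V} (hw : ∀ k ∈ N, ρ k w = w) : w = 0 := by
  by_contra hw0
  obtain ⟨n, hn, hn1⟩ := N.bot_or_exists_ne_one.resolve_left hne
  obtain ⟨v, hv⟩ : ∃ v, ρ n v ≠ v := by
    by_contra hcon
    push Not at hcon
    exact hn1 (hρ (by rw [map_one]; exact LinearEquiv.ext hcon))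
  set u := v - avg ρ N v with hu
  have hnorm : ∀ g : G, ∀ k, k ∈ N ↔ g * k * g⁻¹ ∈ N := fun g k =>
    ⟨fun h => Subgroup.Normal.conj_mem inferInstance k h g, fun h => by
      have := Subgroup.Normal.conj_mem inferInstance _ h g⁻¹
      rwa [show g⁻¹ * (g * k * g⁻¹) * g⁻¹⁻¹ = k by group] at this⟩
  have hau : avg ρ N u = 0 := by
    rw [hu, map_sub, avg_eq_self ρ hN (fun k hk => avg_fixed ρ N hk v), sub_self]
  have hnu : ρ n u ≠ u := by
    intro h
    apply hv
    rw [hu, map_sub, avg_fixed ρ N hn, sub_left_inj] at h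
    exact h
  have hu0 : u ≠ 0 := fun h => hnu (by rw [h, map_zero])
  have hwu : w + u ≠ 0 := by
    intro h
    apply hw0
    have h' := congrArg (avg ρ N) h
    rwa [map_add, avg_eq_self ρ hN hw, hau, add_zero, map_zero] at h'
  have hle : ∀ g, g ∈ St ρ (w + u) → g ∈ St ρ w ∧ g ∈ St ρ u := by
    intro g hg
    have hg' : ρ g (w + u) = w + u := hg
    have h1 : ρ g w = w := by
      have h' := congrArg (avg ρ N) hg'
      rw [map_add, map_add, map_add, ← avg_map ρ (hnorm g) w, ← avg_map ρ (hnorm g) u, hau,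
        map_zero, avg_eq_self ρ hN hw] at h'
      simpa using h'
    refine ⟨h1, ?_⟩
    rw [map_add, h1, add_right_inj] at hg'
    exact hg'
  have heq : St ρ (w + u) = St ρ w :=
    Subgroup.eq_of_le_of_card_ge (fun g hg => (hle g hg).1) (le_of_eq (hhalf w (w + u) hw0 hwu))
  exact hnu (hle n (heq.symm ▸ hw n hn)).2

end Cfsg.Agent.Lib.HalfTransitive
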