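import Cfsg.Agent.Lib.HalfTransitive.Fixed

/-!
An elementary abelian subgroup of order `p²` without fixed points.
Owner: helper27.
-/

set_option autoImplicit false

namespace Cfsg.Agent.Lib.HalfTransitive

variable {q : ℕ} [Fact q.Prime] {V : Type*} [AddCommGroup V] [Module (ZMod q) V]
variable {G : Type*} [Group G] [Finite G] {p : ℕ} [Fact p.Prime]

/-- The subgroups of order `p` of `E`. -/
noncomputable def subs (p : ℕ) (E : Subgroup G) : Finset (Subgroup G) := by
  classical
  haveI := Fintype.ofFinite (Subgroup G)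
  exact Finset.univ.filter fun K => K ≤ E ∧ Nat.card K = p

theorem mem_subs {E K : Subgroup G} : K ∈ subs p E ↔ K ≤ E ∧ Nat.card K = p := by
  classical
  simp [subs]

theorem eq_zpowers_of_mem {E K : Subgroup G} (hK : K ∈ subs p E) {e : G} (he : e ∈ K) (he1 : e ≠ 1) :
    K = Subgroup.zpowers e := by
  have hp : p.Prime := Fact.out
  obtain ⟨-, hc⟩ := mem_subs.1 hK
  refine (Subgroup.eq_of_le_of_card_ge ((Subgroup.zpowers_le).2 he) ?_).symm
  rw [hc, Nat.card_zpowers]
  have hd : orderOf e ∣ p := by rw [← hc]; exact Subgroup.orderOf_dvd_natCard K he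
  rcases (Nat.dvd_prime hp).1 hd with h | h
  · exact absurd (orderOf_eq_one_iff.1 h) he1
  · rw [h]

/-- Every nontrivial element lies in exactly one subgroup of order `p`. -/
theorem sum_subs {M : Type*} [AddCommMonoid M] {E : Subgroup G} (hE : Nat.card E = p ^ 2)
    (hexp : ∀ e ∈ E, e ^ p = 1) (f : G → M) :
    (∑ K ∈ subs p E, ∑ᶠ k : K, f k) + f 1 = (subs p E).card • f 1 + ∑ᶠ e : E, f e := by
  classical
  haveI := Fintype.ofFinite G
  have hconv : ∀ H : Subgroup G, (∑ᶠ h : H, f h) = ∑ e : G, if e ∈ H then f e else 0 := by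
    intro H
    rw [finsum_eq_sum_of_fintype, ← Finset.sum_filter]
    exact (Finset.sum_subtype (Finset.univ.filter fun e => e ∈ H) (by simp) f).symm
  simp only [hconv]
  rw [Finset.sum_comm]
  rw [← Finset.add_sum_erase _ _ (Finset.mem_univ (1 : G)),
    ← Finset.add_sum_erase _ (fun e => if e ∈ E then f e else 0) (Finset.mem_univ (1 : G))]
  have h1 : (∑ K ∈ subs p E, if (1 : G) ∈ K then f 1 else 0) = (subs p E).card • f 1 := by
    rw [Finset.sum_congr rfl fun K _ => if_pos K.one_mem, Finset.sum_const]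
  have h2 : ∀ e ∈ Finset.univ.erase (1 : G),
      (∑ K ∈ subs p E, if e ∈ K then f e else 0) = if e ∈ E then f e else 0 := by
    intro e he
    have he1 : e ≠ 1 := Finset.ne_of_mem_erase he
    by_cases heE : e ∈ E
    · rw [if_pos heE, Finset.sum_eq_single (Subgroup.zpowers e)]
      · rw [if_pos (Subgroup.mem_zpowers e)]
      · intro K hK hne
        rw [if_neg]
        exact fun h => hne (eq_zpowers_of_mem hK h he1)
      · intro h
        exfalso
        apply h
        refine mem_subs.2 ⟨(Subgroup.zpowers_le).2 heE, ?_⟩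
        rw [Nat.card_zpowers]
        exact orderOf_eq_prime (hexp e heE) he1
    · rw [if_neg heE]
      refine Finset.sum_eq_zero fun K hK => if_neg fun h => heE ((mem_subs.1 hK).1 h)
  rw [h1, Finset.sum_congr rfl h2, if_pos E.one_mem]
  abel

theorem card_subs {E : Subgroup G} (hE : Nat.card E = p ^ 2) (hexp : ∀ e ∈ E, e ^ p = 1) :
    (subs p E).card = p + 1 := by
  have hp : p.Prime := Fact.out
  have h := sum_subs (M := ℕ) hE hexp (fun _ => 1)
  have hc : ∀ H : Subgroup G, (∑ᶠ _h : H, (1 : ℕ)) = Nat.card H := by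
    intro H
    haveI := Fintype.ofFinite H
    rw [finsum_eq_sum_of_fintype, Finset.sum_const, Finset.card_univ, smul_eq_mul, mul_one,
      Nat.card_eq_fintype_card]
  simp only [hc, hE, smul_eq_mul, mul_one] at h
  rw [Finset.sum_congr rfl fun K hK => (mem_subs.1 hK).2, Finset.sum_const, smul_eq_mul] at h
  obtain ⟨k, hk⟩ : ∃ k, p = k + 1 := ⟨p - 1, by have := hp.one_lt; omega⟩
  have hk1 : 1 ≤ k := by have := hp.two_le; omega
  rw [hk] at h ⊢
  have : (subs (k + 1) E).card * k = (k + 1 + 1) * k := by nlinarith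
  exact Nat.eq_of_mul_eq_mul_right hk1 this

variable (ρ : G →* (V ≃ₗ[ZMod q] V))

/-- Without fixed vectors, every vector is the sum of its projections. -/
theorem eq_sum_avg (hqp : q ≠ p) {E : Subgroup G} (hE : Nat.card E = p ^ 2)
    (hexp : ∀ e ∈ E, e ^ p = 1) (h0 : ∀ w : V, (∀ k ∈ E, ρ k w = w) → w = 0) (v : V) :
    v = ∑ K ∈ subs p E, avg ρ K v := by
  classical
  have hp : p.Prime := Fact.out
  have hpq : ((p : ℕ) : ZMod q) ≠ 0 := by
    intro h
    rw [ZMod.natCast_eq_zero_iff] at h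
    exact hqp (((Nat.dvd_prime hp).1 h).resolve_left (Fact.out : q.Prime).ne_one)
  have h := sum_subs (M := V) hE hexp (fun e => ρ e v)
  have hav : ∀ H : Subgroup G, (Nat.card H : ZMod q) ≠ 0 →
      (∑ᶠ k : H, ρ (k : G) v) = (Nat.card H : ZMod q) • avg ρ H v := by
    intro H hH
    haveI := Fintype.ofFinite H
    rw [avg_apply, finsum_eq_sum_of_fintype, smul_smul, mul_inv_cancel₀ hH, one_smul]
  have hE0 : (Nat.card E : ZMod q) ≠ 0 := by rw [hE]; push_cast; exact pow_ne_zero 2 hpq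
  rw [rho_one, hav E hE0, h0 _ (fun k hk => avg_fixed ρ E hk v), smul_zero, add_zero,
    card_subs hE hexp, succ_nsmul, add_left_inj] at h
  rw [Finset.sum_congr rfl fun K hK => by
    rw [hav K (by rw [(mem_subs.1 hK).2]; exact hpq), (mem_subs.1 hK).2], ← Finset.smul_sum,
    ← Nat.cast_smul_eq_nsmul (ZMod q)] at h
  exact (smul_right_injective V hpq h).symm

/-- The fixed space of one subgroup is killed by the projection to another. -/
theorem avg_eq_zero_of_ne {E K L : Subgroup G} (hcomm : ∀ a ∈ E, ∀ b ∈ E, a * b = b * a)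
    (hE : Nat.card E = p ^ 2) (h0 : ∀ w : V, (∀ k ∈ E, ρ k w = w) → w = 0)
    (hK : K ∈ subs p E) (hL : L ∈ subs p E) (hne : K ≠ L) {u : V} (hu : ∀ k ∈ L, ρ k u = u) :
    avg ρ K u = 0 := by
  have hp : p.Prime := Fact.out
  apply h0
  have hle : K ≤ St ρ (avg ρ K u) := fun k hk => avg_fixed ρ K hk u
  have hle' : L ≤ St ρ (avg ρ K u) := by
    intro l hl
    show ρ l (avg ρ K u) = avg ρ K u
    rw [avg_map ρ (M := K) (fun k => ?_) u, hu l hl]
    refine ⟨fun hk => ?_, fun hk => ?_⟩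
    · rwa [hcomm l ((mem_subs.1 hL).1 hl) k ((mem_subs.1 hK).1 hk), mul_inv_cancel_right]
    · have hk' : l * k * l⁻¹ ∈ E := (mem_subs.1 hK).1 hk
      have hlE := (mem_subs.1 hL).1 hl
      have hkE : k ∈ E := by
        have := mul_mem (mul_mem (inv_mem hlE) hk') hlE
        rwa [show l⁻¹ * (l * k * l⁻¹) * l = k by group] at this
      rwa [hcomm l hlE k hkE, mul_inv_cancel_right] at hk
  have htop : K ⊔ L = E := by
    have h1 : K ⊔ L ≤ E := sup_le (mem_subs.1 hK).1 (mem_subs.1 hL).1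
    refine Subgroup.eq_of_le_of_card_ge h1 ?_
    have hd : Nat.card ↥(K ⊔ L) ∣ p ^ 2 := hE ▸ Subgroup.card_dvd_of_le h1
    obtain ⟨i, hi, hi'⟩ := (Nat.dvd_prime_pow hp).1 hd
    have h2 : p < Nat.card ↥(K ⊔ L) := by
      rcases Nat.lt_or_ge p (Nat.card ↥(K ⊔ L)) with h | h
      · exact h
      · exfalso
        have e1 := Subgroup.eq_of_le_of_card_ge (le_sup_left : K ≤ K ⊔ L) ((mem_subs.1 hK).2 ▸ h)
        have e2 := Subgroup.eq_of_le_of_card_ge (le_sup_right : L ≤ K ⊔ L) ((mem_subs.1 hL).2 ▸ h)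
        exact hne (e1.trans e2.symm)
    rw [hi'] at h2 ⊢
    rw [hE]
    interval_cases i
    · have := hp.one_lt; simp at h2; omega
    · simp at h2
    · exact le_rfl
  intro k hk
  exact (sup_le hle hle' : K ⊔ L ≤ St ρ (avg ρ K u)) (htop ▸ hk)

end Cfsg.Agent.Lib.HalfTransitive
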