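import Cfsg.Agent.Lib.HalfTransitive.Klein

/-!
Half-transitive `p`-groups with a normal elementary abelian subgroup of order `p²` are monomial.
Owner: helper27.
-/

set_option autoImplicit false

namespace Cfsg.Agent.Lib.HalfTransitive

variable {q : ℕ} [Fact q.Prime] {V : Type*} [AddCommGroup V] [Module (ZMod q) V]
variable {G : Type*} [Group G] [Finite G] {p : ℕ} [Fact p.Prime]

omit [Fact q.Prime] in
theorem pow_sub_one_two_pow {q d k : ℕ} (hq : q.Prime) (hd : 1 ≤ d) (h : q ^ d = 2 ^ k + 1)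
    (hq2 : q ≠ 2) : d = 1 ∨ (d = 2 ∧ q = 3) := by
  rcases Nat.even_or_odd d with ⟨e, rfl⟩ | hodd
  · right
    obtain ⟨x, hx⟩ : ∃ x, q ^ e = x + 1 := ⟨q ^ e - 1, by have := Nat.one_le_pow e q hq.pos; omega⟩
    have h2 : x * (x + 2) = 2 ^ k := by
      rw [pow_add, hx] at h
      nlinarith
    obtain ⟨i, -, hi⟩ := (Nat.dvd_prime_pow Nat.prime_two).1 ⟨x + 2, h2.symm⟩
    obtain ⟨j, -, hj⟩ := (Nat.dvd_prime_pow Nat.prime_two).1 (dvd_of_mul_left_eq x h2)
    have hx2 : x = 2 := by
      have hij : 2 ^ j = 2 ^ i + 2 := by omega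
      have hxodd : ¬ 2 ∣ x + 1 := by
        rw [← hx]
        exact fun h => hq2 ((Nat.prime_dvd_prime_iff_eq Nat.prime_two hq).1
          (Nat.prime_two.dvd_of_dvd_pow h)).symm
      rcases i with _ | _ | i
      · exfalso; apply hxodd; rw [hi]; norm_num
      · simpa using hi
      · exfalso
        rcases j with _ | _ | j
        · (simp at hij; try omega)
        · (simp at hij; try omega)
        · have h4 : 2 ^ (i + 2) = 4 * 2 ^ i := by rw [pow_add]; ring
          have h4' : 2 ^ (j + 2) = 4 * 2 ^ j := by rw [pow_add]; ring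
          rw [h4, h4'] at hij
          omega
    subst hx2
    have he : e ≠ 0 := by rintro rfl; simp at hx
    have hq3 : q = 3 := by
      have hd : q ∣ 3 := by
        have h := dvd_pow_self q he
        rwa [hx] at h
      exact (Nat.prime_dvd_prime_iff_eq hq Nat.prime_three).1 hd
    subst hq3
    have : e = 1 := Nat.pow_right_injective (by norm_num : 2 ≤ 3) (hx.trans (by norm_num))
    exact ⟨by omega, rfl⟩
  · left
    have hsum := geom_sum_mul_of_one_le (x := q) hq.one_lt.le d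
    have hgeom : (∑ i ∈ Finset.range d, q ^ i) ∣ 2 ^ k :=
      ⟨q - 1, (hsum.trans (by rw [h]; simp)).symm⟩
    obtain ⟨i, -, hi⟩ := (Nat.dvd_prime_pow Nat.prime_two).1 hgeom
    have hs : Odd (∑ i ∈ Finset.range d, q ^ i) := by
      rw [Finset.odd_sum_iff_odd_card_odd]
      have : (Finset.range d).filter (fun i => Odd (q ^ i)) = Finset.range d :=
        Finset.filter_true_of_mem fun i _ => (hq.odd_of_ne_two hq2).pow
      rwa [this, Finset.card_range]
    rw [hi] at hs
    have hi0 : i = 0 := by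
      rcases i with _ | i
      · rfl
      · exact absurd hs (by rw [Nat.not_odd_iff_even, pow_succ]; exact even_two.mul_left _)
    rw [hi0, pow_zero] at hi
    have hle : d ≤ ∑ i ∈ Finset.range d, q ^ i := by
      calc d = ∑ _i ∈ Finset.range d, 1 := by simp
        _ ≤ _ := Finset.sum_le_sum fun i _ => Nat.one_le_pow i q hq.pos
    omega

theorem monomial_of_normal [Finite V] [Nontrivial V] (hG : IsPGroup p G) (hqp : q ≠ p)
    (ρ : G →* (V ≃ₗ[ZMod q] V)) (hρ : Function.Injective ρ) (hhalf : Half ρ)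
    {E : Subgroup G} [E.Normal] (hcomm : ∀ a ∈ E, ∀ b ∈ E, a * b = b * a)
    (hexp : ∀ e ∈ E, e ^ p = 1) (hE : Nat.card E = p ^ 2) :
    (Nat.card V = q ^ 2 ∧ (∃ m : ℕ, q = 2 ^ m + 1) ∧
      ∃ e : V ≃ₗ[ZMod q] (Fin 2 → ZMod q), ∀ f : (Fin 2 → ZMod q) ≃ₗ[ZMod q] (Fin 2 → ZMod q),
        (∃ g : G, f = e.symm.trans ((ρ g).trans e)) ↔
        ∃ a s : ZMod q, a ≠ 0 ∧ (s = 1 ∨ s = -1) ∧
          ((∀ v, f v = ![a * v 0, s * a⁻¹ * v 1]) ∨ (∀ v, f v = ![s * a⁻¹ * v 1, a * v 0]))) ∨
    (Nat.card V = 81 ∧ q = 3 ∧ p = 2) := by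
  classical
  have hp : p.Prime := Fact.out
  have hq : q.Prime := Fact.out
  have hpq : ((p : ℕ) : ZMod q) ≠ 0 := by
    intro h
    rw [ZMod.natCast_eq_zero_iff] at h
    exact hqp (((Nat.dvd_prime hp).1 h).resolve_left hq.ne_one)
  have hE0 : (Nat.card E : ZMod q) ≠ 0 := by rw [hE]; push_cast; exact pow_ne_zero 2 hpq
  have hEne : E ≠ ⊥ := by
    intro h
    rw [h, Subgroup.card_bot] at hE
    exact absurd hE (Nat.one_lt_pow two_ne_zero hp.one_lt).ne
  have h0 : ∀ w : V, (∀ k ∈ E, ρ k w = w) → w = 0 := fun w hw =>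
    eq_zero_of_fixed hρ hhalf hE0 hEne hw
  set U : Subgroup G → V → Prop := fun K v => ∀ k ∈ K, ρ k v = v with hU
  have hcard : ∀ K ∈ subs p E, (Nat.card K : ZMod q) ≠ 0 := fun K hK => by
    rw [(mem_subs.1 hK).2]; exact hpq
  have hproj : ∀ K L, K ∈ subs p E → L ∈ subs p E → K ≠ L → ∀ u, U L u → avg ρ K u = 0 :=
    fun K L hK hL hne u hu => avg_eq_zero_of_ne ρ hcomm hE h0 hK hL hne hu
  have hself : ∀ K ∈ subs p E, ∀ u, U K u → avg ρ K u = u :=
    fun K hK u hu => avg_eq_self ρ (hcard K hK) hu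
  let cj : G → Subgroup G → Subgroup G := fun g K => K.map (MulAut.conj g).toMonoidHom
  have hcj : ∀ g K k, k ∈ K → g * k * g⁻¹ ∈ cj g K := fun g K k hk => ⟨k, hk, rfl⟩
  have hcjmem : ∀ g, ∀ K ∈ subs p E, cj g K ∈ subs p E := by
    intro g K hK
    refine mem_subs.2 ⟨?_, ?_⟩
    · rintro _ ⟨k, hk, rfl⟩
      exact Subgroup.Normal.conj_mem inferInstance k ((mem_subs.1 hK).1 hk) g
    · rw [Subgroup.card_map_of_injective (MulAut.conj g).injective]
      exact (mem_subs.1 hK).2
  have hcjU : ∀ g K u, U K u → U (cj g K) (ρ g u) := by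
    rintro g K u hu _ ⟨k, hk, rfl⟩
    show ρ (g * k * g⁻¹) (ρ g u) = ρ g u
    rw [← rho_mul ρ, inv_mul_cancel_right, rho_mul ρ, hu k hk]
  -- swappers
  have hswap : ∀ K L, K ∈ subs p E → L ∈ subs p E → K ≠ L → ∀ u u', u ≠ 0 → u' ≠ 0 → U K u →
      U L u' → (∀ g, g ∈ St ρ (u + u') → ρ g u = u ∧ ρ g u' = u' ∨
        cj g K = L ∧ cj g L = K ∧ ρ g u = u' ∧ ρ g u' = u) ∧
      ∃ g, cj g K = L ∧ cj g L = K ∧ ρ g u = u' ∧ ρ g u' = u := by
    intro K L hK hL hne u u' hu hu' hUu hUu'
    have hsum : u + u' ≠ 0 := by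
      intro h
      apply hu
      have h' := congrArg (avg ρ K) h
      rwa [map_add, hself K hK u hUu, hproj K L hK hL hne u' hUu', add_zero, map_zero] at h'
    have hcases : ∀ g, g ∈ St ρ (u + u') → ρ g u = u ∧ ρ g u' = u' ∨
        cj g K = L ∧ cj g L = K ∧ ρ g u = u' ∧ ρ g u' = u := by
      intro g hg
      have hg' : ρ g u + ρ g u' = u + u' := by rw [← map_add]; exact hg
      set K' := cj g K
      set L' := cj g L
      have hK' := hcjmem g K hK
      have hL' := hcjmem g L hL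
      have hne' : K' ≠ L' := fun h => hne (Subgroup.map_injective (MulAut.conj g).injective h)
      have eK : ρ g u = avg ρ K' (u + u') := by
        rw [← hg', map_add, hself K' hK' _ (hcjU g K u hUu),
          hproj K' L' hK' hL' hne' _ (hcjU g L u' hUu'), add_zero]
      have eL : ρ g u' = avg ρ L' (u + u') := by
        rw [← hg', map_add, hself L' hL' _ (hcjU g L u' hUu'),
          hproj L' K' hL' hK' hne'.symm _ (hcjU g K u hUu), zero_add]
      have hgu0 : ρ g u ≠ 0 := fun h => hu ((ρ g).map_eq_zero_iff.1 h)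
      have hgu0' : ρ g u' ≠ 0 := fun h => hu' ((ρ g).map_eq_zero_iff.1 h)
      rw [map_add] at eK eL
      by_cases h1 : K' = K
      · left
        have e1 : ρ g u = u := by
          rw [eK, h1, hself K hK u hUu, hproj K L hK hL hne u' hUu', add_zero]
        refine ⟨e1, ?_⟩
        rw [e1, add_right_inj] at hg'
        exact hg'
      · by_cases h2 : K' = L
        · right
          have e1 : ρ g u = u' := by
            rw [eK, h2, hself L hL u' hUu', hproj L K hL hK hne.symm u hUu, zero_add]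
          have e2 : ρ g u' = u := by
            rw [e1, add_comm u u', add_right_inj] at hg'
            exact hg'
          refine ⟨h2, ?_, e1, e2⟩
          by_contra h3
          apply hgu0'
          have h4 : L' ≠ L := fun h => hne' (h2.trans h.symm)
          rw [eL, hproj L' K hL' hK h3 u hUu, hproj L' L hL' hL h4 u' hUu', add_zero]
        · exfalso
          apply hgu0
          rw [eK, hproj K' K hK' hK h1 u hUu, hproj K' L hK' hL h2 u' hUu', add_zero]
    refine ⟨hcases, ?_⟩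
    by_contra hno
    push Not at hno
    have hle : ∀ g, g ∈ St ρ (u + u') → g ∈ St ρ u ∧ g ∈ St ρ u' := fun g hg => by
      rcases hcases g hg with h | ⟨h1, h2, h3, h4⟩
      · exact h
      · exact absurd h4 (hno g h1 h2 h3)
    have heq : St ρ (u + u') = St ρ u :=
      Subgroup.eq_of_le_of_card_ge (fun g hg => (hle g hg).1) (le_of_eq (hhalf u (u + u') hu hsum))
    obtain ⟨k, hk, hk1⟩ : ∃ k ∈ K, k ≠ 1 := by
      refine K.bot_or_exists_ne_one.resolve_left ?_
      intro h
      have := (mem_subs.1 hK).2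
      rw [h, Subgroup.card_bot] at this
      exact hp.ne_one this.symm
    have hku' : ρ k u' = u' := (hle k (heq.symm ▸ hUu k hk)).2
    have hle' : K ≤ St ρ u' := by
      rw [eq_zpowers_of_mem hK hk hk1, Subgroup.zpowers_le]; exact hku'
    apply hu'
    have e1 := hproj K L hK hL hne u' hUu'
    rwa [hself K hK u' hle'] at e1
  -- at least two components
  set C := (subs p E).filter fun K => ∃ u, u ≠ 0 ∧ U K u with hC
  have hCmem : ∀ M ∈ subs p E, ∀ u, u ≠ 0 → U M u → M ∈ C := fun M hM u hu hUu =>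
    Finset.mem_filter.2 ⟨hM, u, hu, hUu⟩
  have hdec : ∀ v, v = ∑ K ∈ C, avg ρ K v := by
    intro v
    conv_lhs => rw [eq_sum_avg ρ hqp hE hexp h0 v]
    refine (Finset.sum_subset (Finset.filter_subset _ _) fun K hK hKC => ?_).symm
    by_contra hne
    exact hKC (Finset.mem_filter.2 ⟨hK, _, hne, fun k hk => avg_fixed ρ K hk v⟩)
  have hC2 : 1 < C.card := by
    by_contra hlt
    push Not at hlt
    obtain ⟨v, hv⟩ := exists_ne (0 : V)
    obtain ⟨K, hK⟩ : C.Nonempty := by
      by_contra h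
      rw [Finset.not_nonempty_iff_eq_empty] at h
      exact hv (by rw [hdec v, h, Finset.sum_empty])
    have hCK : C = {K} := Finset.eq_singleton_iff_unique_mem.2
      ⟨hK, fun L hL => Finset.card_le_one.1 hlt L hL K hK⟩
    have hKs := Finset.mem_filter.1 hK
    obtain ⟨k, hk, hk1⟩ : ∃ k ∈ K, k ≠ 1 := by
      refine K.bot_or_exists_ne_one.resolve_left ?_
      intro h
      have := (mem_subs.1 hKs.1).2
      rw [h, Subgroup.card_bot] at this
      exact hp.ne_one this.symm
    refine hk1 (hρ (LinearEquiv.ext fun w => ?_))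
    rw [map_one, LinearEquiv.coe_one, id]
    rw [hdec w, hCK, Finset.sum_singleton, avg_fixed ρ K hk]
  obtain ⟨K, hK, L, hL, hKL⟩ := Finset.one_lt_card.1 hC2
  obtain ⟨hKs, u1, hu1, hUu1⟩ := Finset.mem_filter.1 hK
  obtain ⟨hLs, u2', hu2', hUu2'⟩ := Finset.mem_filter.1 hL
  have hcj1 : ∀ M, cj 1 M = M := fun M => by
    show M.map _ = M
    ext x; simp
  have hcjmul : ∀ g h M, cj (g * h) M = cj g (cj h M) := fun g h M => by
    show M.map _ = (M.map _).map _
    rw [Subgroup.map_map]; congr 1; ext x; simp [mul_assoc]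
  -- `p = 2`
  obtain ⟨g1, hg1K, hg1L, hg1u, hg1u'⟩ := (hswap K L hKs hLs hKL u1 u2' hu1 hu2' hUu1 hUu2').2
  have hp2 : p = 2 := by
    by_contra hne
    obtain ⟨j, hj⟩ := hG g1
    have hodd : Odd (p ^ j) := (hp.odd_of_ne_two hne).pow
    obtain ⟨i, hi⟩ := hodd
    have hev : ∀ n : ℕ, cj (g1 ^ (2 * n)) K = K := by
      intro n
      induction n with
      | zero => simp [hcj1]
      | succ n ih => rw [show 2 * (n + 1) = 2 + 2 * n by ring, pow_add, hcjmul, ih, pow_two, hcjmul,
          hg1K, hg1L]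
    have : cj (g1 ^ (p ^ j)) K = L := by
      rw [hi, pow_succ', hcjmul, hev, hg1K]
    rw [hj, hcj1] at this
    exact hKL this
  subst hp2
  -- exactly two components
  have hC' : C = {K, L} := by
    refine (Finset.eq_of_subset_of_card_le (Finset.insert_subset hK (Finset.singleton_subset_iff.2 hL))
      ?_).symm
    rw [Finset.card_pair hKL]
    by_contra h3
    obtain ⟨M, hM, hMK, hML⟩ : ∃ M ∈ C, M ≠ K ∧ M ≠ L := by
      by_contra hcon
      push Not at hcon
      apply h3
      rw [← Finset.card_pair hKL]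
      refine Finset.card_le_card fun M hM => ?_
      rcases eq_or_ne M K with h | h
      · simp [h]
      · simp [hcon M hM h]
    obtain ⟨hMs, u3, hu3, hUu3⟩ := Finset.mem_filter.1 hM
    obtain ⟨h, hhK, hhM, -, -⟩ := (hswap K M hKs hMs (Ne.symm hMK) u1 u3 hu1 hu3 hUu1 hUu3).2
    have hfix : ∀ {g : G} {A B D : Subgroup G}, A ∈ subs 2 E → B ∈ subs 2 E → D ∈ subs 2 E →
        A ≠ B → D ≠ A → D ≠ B → cj g A = B → cj g B = A → cj g D = D := by
      intro g A B D hA hB hD hAB hDA hDB hgA hgB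
      have h3 : (subs 2 E).card = 3 := card_subs hE hexp
      have hall : ({A, B, D} : Finset (Subgroup G)) = subs 2 E := by
        refine Finset.eq_of_subset_of_card_le ?_ ?_
        · simp [Finset.insert_subset_iff, hA, hB, hD]
        · rw [h3, Finset.card_insert_of_notMem (by simp [hAB, Ne.symm hDA]),
            Finset.card_pair (Ne.symm hDB)]
      have := hcjmem g D hD
      rw [← hall] at this
      simp only [Finset.mem_insert, Finset.mem_singleton] at this
      have hinj := Subgroup.map_injective (f := (MulAut.conj g).toMonoidHom) (MulAut.conj g).injective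
      rcases this with e | e | e
      · exact absurd (hinj (e.trans hgB.symm)) hDB
      · exact absurd (hinj (e.trans hgA.symm)) hDA
      · exact e
    have hgM : cj g1 M = M := hfix hKs hLs hMs hKL hMK hML hg1K hg1L
    have hhL : cj h L = L := hfix hKs hMs hLs (Ne.symm hMK) hKL.symm (Ne.symm hML) hhK hhM
    set w := g1 * h with hw
    have w1 : cj w K = M := by rw [hw, hcjmul, hhK, hgM]
    have w2 : cj w M = L := by rw [hw, hcjmul, hhM, hg1K]
    have w3 : cj w L = K := by rw [hw, hcjmul, hhL, hg1L]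
    have hcyc : ∀ n : ℕ, (n % 3 = 0 → cj (w ^ n) K = K) ∧ (n % 3 = 1 → cj (w ^ n) K = M) ∧
        (n % 3 = 2 → cj (w ^ n) K = L) := by
      intro n
      induction n with
      | zero => refine ⟨fun _ => by simp [hcj1], by simp, by simp⟩
      | succ n ih =>
        obtain ⟨i0, i1, i2⟩ := ih
        refine ⟨fun h => ?_, fun h => ?_, fun h => ?_⟩ <;> rw [pow_succ', hcjmul]
        · rw [i2 (by omega), w3]
        · rw [i0 (by omega), w1]
        · rw [i1 (by omega), w2]
    obtain ⟨j, hj⟩ := hG w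
    obtain ⟨c0, c1, c2⟩ := hcyc (2 ^ j)
    have h3 : 2 ^ j % 3 = 1 ∨ 2 ^ j % 3 = 2 := by
      have : ¬ 3 ∣ 2 ^ j := fun h => by
        have := Nat.prime_three.dvd_of_dvd_pow h; omega
      omega
    rw [hj, hcj1] at c1 c2
    rcases h3 with e | e
    · exact hMK (c1 e).symm
    · exact hKL (c2 e)
  have hdec2 : ∀ v, v = avg ρ K v + avg ρ L v := fun v => by
    conv_lhs => rw [hdec v, hC', Finset.sum_pair hKL]
  let UK : Submodule (ZMod q) V :=
    { carrier := {v | U K v}
      zero_mem' := fun k _ => map_zero _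
      add_mem' := fun {a b} ha hb k hk => by rw [map_add, ha k hk, hb k hk]
      smul_mem' := fun c a ha k hk => by rw [map_smul, ha k hk] }
  let UL : Submodule (ZMod q) V :=
    { carrier := {v | U L v}
      zero_mem' := fun k _ => map_zero _
      add_mem' := fun {a b} ha hb k hk => by rw [map_add, ha k hk, hb k hk]
      smul_mem' := fun c a ha k hk => by rw [map_smul, ha k hk] }
  -- the component stabiliser is transitive on `UK`
  let G0 : Subgroup G :=
    { carrier := {g | cj g K = K}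
      one_mem' := hcj1 K
      mul_mem' := fun {a b} ha hb => by
        show cj (a * b) K = K
        rw [hcjmul, show cj b K = K from hb, show cj a K = K from ha]
      inv_mem' := fun {a} ha => by
        show cj a⁻¹ K = K
        conv_lhs => rw [← show cj a K = K from ha]
        rw [← hcjmul, inv_mul_cancel, hcj1] }
  have hrev : ∀ {g : G} {a b : V}, ρ g a = b → ρ g⁻¹ b = a := fun {g a b} h => by
    rw [← h, rho_inv ρ]
  have htrans : ∀ u, u ≠ 0 → U K u → ∃ g ∈ G0, ρ g u1 = u := by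
    intro u hu hUu
    obtain ⟨g, -, hgL, -, hgu'⟩ := (hswap K L hKs hLs hKL u u2' hu hu2' hUu hUu2').2
    refine ⟨g * g1, ?_, ?_⟩
    · show cj (g * g1) K = K
      rw [hcjmul, hg1K, hgL]
    · rw [rho_mul, hg1u, hgu']
  haveI := Fintype.ofFinite V
  have heqcard : Nat.card UK = Nat.card UL := by
    refine Nat.card_congr
      { toFun := fun v => ⟨ρ g1 v, by
          have h := hcjU g1 K v v.2
          rw [hg1K] at h
          exact h⟩
        invFun := fun v => ⟨ρ g1⁻¹ v, by
          have h := hcjU g1⁻¹ L v v.2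
          rwa [← hg1K, ← hcjmul, inv_mul_cancel, hcj1] at h⟩
        left_inv := fun v => Subtype.ext (rho_inv ρ g1 v.1)
        right_inv := fun v => Subtype.ext (rho_inv' ρ g1 v.1) }
  have hV : Nat.card V = Nat.card UK * Nat.card UL := by
    rw [← Nat.card_prod]
    refine Nat.card_congr
      { toFun := fun v => (⟨avg ρ K v, fun k hk => avg_fixed ρ K hk v⟩,
          ⟨avg ρ L v, fun k hk => avg_fixed ρ L hk v⟩)
        invFun := fun w => w.1.1 + w.2.1
        left_inv := fun v => (hdec2 v).symm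
        right_inv := fun w => by
          refine Prod.ext (Subtype.ext ?_) (Subtype.ext ?_)
          · show avg ρ K (w.1.1 + w.2.1) = w.1.1
            rw [map_add, hself K hKs _ w.1.2, hproj K L hKs hLs hKL _ w.2.2, add_zero]
          · show avg ρ L (w.1.1 + w.2.1) = w.2.1
            rw [map_add, hself L hLs _ w.2.2, hproj L K hLs hKs hKL.symm _ w.1.2, zero_add] }
  obtain ⟨d, hd⟩ : ∃ d, Nat.card UK = q ^ d := by
    refine ⟨Module.finrank (ZMod q) UK, ?_⟩
    rw [Nat.card_eq_fintype_card, Module.card_eq_pow_finrank (K := ZMod q) (V := UK), ZMod.card]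
  have hd1 : 1 ≤ d := by
    rcases Nat.eq_zero_or_pos d with rfl | h
    · exfalso
      rw [pow_zero, Nat.card_eq_one_iff_unique] at hd
      have := hd.1.elim ⟨u1, hUu1⟩ 0
      exact hu1 (congrArg Subtype.val this)
    · exact h
  -- the orbit of `u1`
  obtain ⟨k, hk⟩ : ∃ k, q ^ d = 2 ^ k + 1 := by
    let act : MulAction G0 V :=
      { smul := fun g u => ρ g.1 u
        one_smul := rho_one ρ
        mul_smul := fun g h u => rho_mul ρ g.1 h.1 u }
    have hset : @MulAction.orbit G0 V act.toSMul u1 = {v | U K v ∧ v ≠ 0} := by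
      ext v
      constructor
      · rintro ⟨g, rfl⟩
        exact ⟨(show cj g.1 K = K from g.2) ▸ hcjU g.1 K u1 hUu1,
          fun h => hu1 ((ρ g.1).map_eq_zero_iff.1 h)⟩
      · rintro ⟨hUv, hv⟩
        obtain ⟨g, hg, hgv⟩ := htrans v hv hUv
        exact ⟨⟨g, hg⟩, hgv⟩
    have horb := @MulAction.index_stabilizer G0 V _ act u1
    rw [hset] at horb
    obtain ⟨k, hk⟩ := (hG.to_subgroup G0).index (MulAction.stabilizer G0 u1)
    refine ⟨k, ?_⟩
    rw [← hk, horb]
    have h1 : ({v | U K v ∧ v ≠ 0} : Set V) = (UK : Set V) \ {0} := by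
      ext v; exact Iff.rfl
    rw [h1, Set.ncard_sdiff_singleton_of_mem UK.zero_mem, ← Nat.card_coe_set_eq]
    show q ^ d = Nat.card UK - 1 + 1
    rw [hd]
    have := Nat.one_le_pow d q hq.pos
    omega
  rcases pow_sub_one_two_pow hq hd1 hk hqp with rfl | ⟨rfl, rfl⟩
  swap
  · right
    exact ⟨by rw [hV, ← heqcard, hd]; norm_num, rfl, rfl⟩
  left
  rw [pow_one] at hd hk
  refine ⟨by rw [hV, ← heqcard, hd, sq], ⟨k, hk⟩, ?_⟩
  set u2 := u2' with hu2def
  have hline : ∀ {W : Submodule (ZMod q) V} {w : V}, Nat.card W = q → w ∈ W → w ≠ 0 →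
      ∀ v ∈ W, ∃ c : ZMod q, v = c • w := by
    intro W w hW hwW hw v hv
    have hinj : Function.Injective fun c : ZMod q => (⟨c • w, W.smul_mem c hwW⟩ : W) := fun a b h =>
      smul_left_injective (ZMod q) hw (congrArg Subtype.val h)
    have hbij := (Nat.bijective_iff_injective_and_card _).2 ⟨hinj, by rw [hW, Nat.card_zmod]⟩
    obtain ⟨c, hc⟩ := hbij.2 ⟨v, hv⟩
    exact ⟨c, (congrArg Subtype.val hc).symm⟩
  have hlineK := hline hd (show u1 ∈ UK from hUu1) hu1
  have hlineL := hline (heqcard ▸ hd) (show u2 ∈ UL from hUu2') hu2'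
  let φ : (Fin 2 → ZMod q) →ₗ[ZMod q] V :=
    { toFun := fun x => x 0 • u1 + x 1 • u2
      map_add' := fun x y => by simp only [Pi.add_apply, add_smul]; abel
      map_smul' := fun c x => by simp [smul_smul, smul_add] }
  have hφinj : Function.Injective φ := by
    intro x y h
    have e1 := congrArg (avg ρ K) h
    have e2 := congrArg (avg ρ L) h
    simp only [φ, LinearMap.coe_mk, AddHom.coe_mk, map_add, map_smul, hself K hKs u1 hUu1,
      hproj K L hKs hLs hKL u2 hUu2', hself L hLs u2 hUu2', hproj L K hLs hKs hKL.symm u1 hUu1,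
      smul_zero, add_zero, zero_add] at e1 e2
    funext i
    fin_cases i
    · exact smul_left_injective (ZMod q) hu1 e1
    · exact smul_left_injective (ZMod q) hu2' e2
  have hφ : Function.Bijective φ := by
    refine ⟨hφinj, fun v => ?_⟩
    obtain ⟨a, ha⟩ := hlineK (avg ρ K v) (fun k hk => avg_fixed ρ K hk v)
    obtain ⟨b, hb⟩ := hlineL (avg ρ L v) (fun k hk => avg_fixed ρ L hk v)
    exact ⟨![a, b], by simp [φ, ← ha, ← hb, ← hdec2 v]⟩
  let e : V ≃ₗ[ZMod q] (Fin 2 → ZMod q) := (LinearEquiv.ofBijective φ hφ).symm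
  have heφ : ∀ x, e.symm x = x 0 • u1 + x 1 • u2 := fun x => rfl
  have hdet : ∀ g h : G, ρ g u1 = ρ h u1 → ρ g u2 = ρ h u2 → g = h := by
    intro g h e1 e2
    refine hρ (LinearEquiv.ext fun v => ?_)
    obtain ⟨x, rfl⟩ := e.symm.surjective v
    simp only [heφ, map_add, map_smul, e1, e2]
  have hunit : ∀ t : ZMod q, t ≠ 0 → ∃ g, cj g K = L ∧ cj g L = K ∧ ρ g u1 = t • u2 ∧
      ρ g u2 = t⁻¹ • u1 := by
    intro t ht
    obtain ⟨g, h1, h2, h3, h4⟩ := (hswap K L hKs hLs hKL u1 (t • u2) hu1 (smul_ne_zero ht hu2') hUu1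
      (fun k hk => by rw [map_smul, hUu2' k hk])).2
    refine ⟨g, h1, h2, h3, ?_⟩
    rw [map_smul] at h4
    rw [← h4, smul_smul, inv_mul_cancel₀ ht, one_smul]
  -- the stabiliser of `u1`
  have hcardB : Nat.card (St ρ u1) = 2 := by
    have hsum : u1 + u2 ≠ 0 := by
      intro h
      apply hu1
      have h' := congrArg (avg ρ K) h
      rwa [map_add, hself K hKs u1 hUu1, hproj K L hKs hLs hKL u2 hUu2', add_zero, map_zero] at h'
    rw [hhalf u1 (u1 + u2) hu1 hsum]
    have hset : (St ρ (u1 + u2) : Set G) = {1, g1} := by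
      ext g
      constructor
      · intro hg
        rcases (hswap K L hKs hLs hKL u1 u2 hu1 hu2' hUu1 hUu2').1 g hg with
          ⟨e1, e2⟩ | ⟨-, -, e1, e2⟩
        · exact Or.inl (hdet g 1 (by rw [e1, rho_one]) (by rw [e2, rho_one]))
        · exact Or.inr (hdet g g1 (by rw [e1, hg1u]) (by rw [e2, hg1u']))
      · rintro (rfl | rfl)
        · exact (St ρ _).one_mem
        · show ρ g (u1 + u2) = u1 + u2
          rw [map_add, hg1u, hg1u', add_comm]
    show Nat.card (St ρ (u1 + u2) : Set G) = 2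
    rw [Nat.card_coe_set_eq, hset, Set.ncard_pair]
    intro h
    rw [← h, hcj1] at hg1K
    exact hKL hg1K
  have hneg : (-1 : ZMod q) ≠ 1 := by
    haveI : Fact (2 < q) := ⟨lt_of_le_of_ne hq.two_le (Ne.symm hqp)⟩
    exact ZMod.neg_one_ne_one
  have hG0L : ∀ g, cj g K = K → cj g L = L := by
    intro g hg
    have hmem : cj g L ∈ C := hCmem _ (hcjmem g L hLs) (ρ g u2)
      (fun h => hu2' ((ρ g).map_eq_zero_iff.1 h)) (hcjU g L u2 hUu2')
    rw [hC'] at hmem
    simp only [Finset.mem_insert, Finset.mem_singleton] at hmem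
    exact hmem.resolve_left fun h => hKL.symm
      (Subgroup.map_injective (MulAut.conj g).injective (h.trans hg.symm))
  have hcoord : ∀ g, cj g K = K → ∃ a b : ZMod q, ρ g u1 = a • u1 ∧ ρ g u2 = b • u2 := by
    intro g hg
    obtain ⟨a, ha⟩ := hlineK _ (hg ▸ hcjU g K u1 hUu1)
    obtain ⟨b, hb⟩ := hlineL _ (hG0L g hg ▸ hcjU g L u2 hUu2')
    exact ⟨a, b, ha, hb⟩
  have honly : ∀ g, ρ g u1 = u1 → ∀ β : ZMod q, ρ g u2 = β • u2 → β * β = 1 := by
    intro g h1 β h2
    have hg : g * g = 1 := by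
      have := pow_card_eq_one' (G := St ρ u1) (x := ⟨g, h1⟩)
      rw [hcardB, pow_two] at this
      exact congrArg Subtype.val this
    have h3 : ρ (g * g) u2 = (β * β) • u2 := by rw [rho_mul, h2, map_smul, h2, smul_smul]
    rw [hg, rho_one] at h3
    exact (smul_left_injective (ZMod q) hu2' ((one_smul _ u2).trans h3)).symm
  obtain ⟨b₀, hb₀u1, hb₀u2⟩ : ∃ b : G, ρ b u1 = u1 ∧ ρ b u2 = (-1 : ZMod q) • u2 := by
    haveI : Nontrivial (St ρ u1) := Finite.one_lt_card_iff_nontrivial.1 (by omega)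
    obtain ⟨x, hx⟩ := exists_ne (1 : St ρ u1)
    have hx1 : ρ x.1 u1 = u1 := x.2
    have hxK : cj x.1 K = K := by
      by_contra h
      apply hu1
      have h' := hproj K (cj x.1 K) hKs (hcjmem _ K hKs) (Ne.symm h) u1
        (by have h'' := hcjU x.1 K u1 hUu1; rw [hx1] at h''; exact h'')
      rwa [hself K hKs u1 hUu1] at h'
    obtain ⟨-, β, -, hβ⟩ := hcoord x.1 hxK
    refine ⟨x.1, hx1, ?_⟩
    rcases mul_self_eq_one_iff.1 (honly x.1 hx1 β hβ) with rfl | rfl
    · exact absurd (Subtype.ext (hdet x.1 1 (by rw [hx1, rho_one])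
        (by rw [hβ, one_smul, rho_one]))) hx
    · exact hβ
  -- all diagonal elements
  have hdiag : ∀ a s : ZMod q, a ≠ 0 → (s = 1 ∨ s = -1) →
      ∃ g, ρ g u1 = a • u1 ∧ ρ g u2 = (s * a⁻¹) • u2 := by
    intro a s ha hs
    obtain ⟨g, -, -, h3, h4⟩ := hunit a⁻¹ (inv_ne_zero ha)
    rw [inv_inv] at h4
    rcases hs with rfl | rfl
    · exact ⟨g * g1, by rw [rho_mul, hg1u, h4], by rw [rho_mul, hg1u', h3, one_mul]⟩
    · refine ⟨g * g1 * b₀, ?_, ?_⟩
      · rw [rho_mul, rho_mul, hb₀u1, hg1u, h4]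
      · rw [rho_mul, rho_mul, hb₀u2, map_smul, map_smul, hg1u', h3, smul_smul]
  have hdiag' : ∀ g, cj g K = K → ∃ a s : ZMod q, a ≠ 0 ∧ (s = 1 ∨ s = -1) ∧
      ρ g u1 = a • u1 ∧ ρ g u2 = (s * a⁻¹) • u2 := by
    intro g hg
    obtain ⟨a, b, ha, hb⟩ := hcoord g hg
    have ha0 : a ≠ 0 := fun h => hu1 ((ρ g).map_eq_zero_iff.1 (by rw [ha, h, zero_smul]))
    obtain ⟨d, hd1', hd2'⟩ := hdiag a⁻¹ 1 (inv_ne_zero ha0) (Or.inl rfl)
    rw [inv_inv, one_mul] at hd2'
    have e1 : ρ (d * g) u1 = u1 := by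
      rw [rho_mul, ha, map_smul, hd1', smul_smul, mul_inv_cancel₀ ha0, one_smul]
    have e2 : ρ (d * g) u2 = (b * a) • u2 := by rw [rho_mul, hb, map_smul, hd2', smul_smul]
    refine ⟨a, b * a, ha0, mul_self_eq_one_iff.1 (honly _ e1 _ e2), ha, ?_⟩
    rw [hb, mul_assoc, mul_inv_cancel₀ ha0, mul_one]
  refine ⟨e, fun f => ⟨?_, ?_⟩⟩
  · rintro ⟨g, rfl⟩
    have happ : ∀ {x y : ZMod q} (v : Fin 2 → ZMod q) {w : V},
        w = x • u1 + y • u2 → e w = ![x, y] := by
      intro x y v w hw
      apply e.symm.injective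
      rw [e.symm_apply_apply, heφ, hw]
      rfl
    by_cases hg : cj g K = K
    · obtain ⟨a, s, ha, hs, h1, h2⟩ := hdiag' g hg
      refine ⟨a, s, ha, hs, Or.inl fun v => happ (w := ρ g (e.symm v)) v ?_⟩
      simp only [heφ, map_add, map_smul, h1, h2, smul_smul]
      module
    · have hgK : cj g K = L := by
        have hmem : cj g K ∈ C := hCmem _ (hcjmem g K hKs) (ρ g u1)
          (fun h => hu1 ((ρ g).map_eq_zero_iff.1 h)) (hcjU g K u1 hUu1)
        rw [hC'] at hmem
        simp only [Finset.mem_insert, Finset.mem_singleton] at hmem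
        exact hmem.resolve_left hg
      obtain ⟨a, s, ha, hs, h1, h2⟩ := hdiag' (g1 * g) (by rw [hcjmul, hgK, hg1L])
      have k1 : ρ g u1 = a • u2 := by
        have h := hrev h1.symm.symm
        apply (ρ g1).injective
        rw [← rho_mul, h1, map_smul, hg1u']
      have k2 : ρ g u2 = (s * a⁻¹) • u1 := by
        apply (ρ g1).injective
        rw [← rho_mul, h2, map_smul, hg1u]
      refine ⟨a, s, ha, hs, Or.inr fun v => happ (w := ρ g (e.symm v)) v ?_⟩
      simp only [heφ, map_add, map_smul, k1, k2, smul_smul]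
      module
  · rintro ⟨a, s, ha, hs, hf⟩
    obtain ⟨g, h1, h2⟩ := hdiag a s ha hs
    rcases hf with hf | hf
    · refine ⟨g, LinearEquiv.ext fun v => ?_⟩
      rw [hf v]
      apply e.symm.injective
      rw [LinearEquiv.trans_apply, LinearEquiv.trans_apply, LinearEquiv.symm_apply_apply]
      simp only [heφ, map_add, map_smul, h1,
        h2, smul_smul, Matrix.cons_val_zero, Matrix.cons_val_one]
      module
    · refine ⟨g1 * g, LinearEquiv.ext fun v => ?_⟩
      rw [hf v]
      apply e.symm.injective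
      rw [LinearEquiv.trans_apply, LinearEquiv.trans_apply, LinearEquiv.symm_apply_apply]
      simp only [heφ, map_add, map_smul, h1,
        h2, rho_mul, hg1u, hg1u', smul_smul, Matrix.cons_val_zero, Matrix.cons_val_one]
      module

end Cfsg.Agent.Lib.HalfTransitive
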